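import Groth.Agent.Lib.AdeqMod20.Sheaf
import Groth.Agent.Lib.Adeq20.Desc
import Mathlib.AlgebraicGeometry.Morphisms.Flat

/-!
# Affine refinements of covering sieves of affine objects
-/

set_option autoImplicit false
set_option linter.style.haveILetI false
set_option linter.unusedSectionVars false

universe u

open CategoryTheory CategoryTheory.Limits Opposite AlgebraicGeometry

noncomputable section

namespace GrothLib.AdeqMod20

open Adeq GrothLib.Adeq20

variable (K : Precoverage Scheme.{u}) [BigSite.OSh K] [GoodPre K] {S : Scheme.{u}} {R : CommRingCat.{u}}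
  (a : Spec R ⟶ S)

theorem covFam_props {ι : Type u} {B : Alg R} {D : ι → Alg R} {f : ∀ i, B ⟶ D i} (hf : CovFam K f) :
    (∀ j, (f j).hom.toRingHom.Flat) ∧ ∀ p : PrimeSpectrum (B : Type u), ∃ j, ∃ q : PrimeSpectrum (D j : Type u),
      PrimeSpectrum.comap (f j).hom.toRingHom q = p := by
  obtain ⟨hflat, hsurj⟩ := flat_of_mem K _ hf
  refine ⟨fun j => ?_, fun p => ?_⟩
  · exact (HasRingHomProperty.Spec_iff (P := @Flat)).1 (hflat j)
  · obtain ⟨j, q, hq⟩ := hsurj p
    exact ⟨j, q, hq⟩

/-- A covering sieve of an affine object contains a finite affine covering family. -/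
theorem exists_covFam {B : Alg R} (T : Sieve ((specOver a).obj (op B)))
    (hT : T ∈ QuotSh.J K S ((specOver a).obj (op B))) :
    ∃ (ι : Type u) (_ : Finite ι) (D : ι → Alg R) (f : ∀ i, B ⟶ D i),
      CovFam K f ∧ ∀ i, T (siteHom a (f i)) := by
  rw [GrothendieckTopology.mem_over_iff] at hT
  obtain ⟨ι, hfin, C, hC, hmem⟩ := exists_affine_refinement K (CommRingCat.of (B : Type u))
    (Sieve.overEquiv _ T) hT
  let D : ι → Alg R := fun i =>
    letI : Algebra R (C i : Type u) := ((algebraMap (B : Type u) (C i : Type u)).comp (algebraMap R (B : Type u))).toAlgebra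
    algOf R (C i : Type u)
  let f : ∀ i, B ⟶ D i := fun i =>
    letI : Algebra R (C i : Type u) := ((algebraMap (B : Type u) (C i : Type u)).comp (algebraMap R (B : Type u))).toAlgebra
    CommAlgCat.ofHom { algebraMap (B : Type u) (C i : Type u) with commutes' := fun r => rfl }
  refine ⟨ι, hfin, D, f, hC, fun i => ?_⟩
  have h1 := (Sieve.overEquiv_iff (Y := (specOver a).obj (op B)) T (specAlg (f i))).1 (hmem i)
  let e : (specOver a).obj (op (D i)) ≅ Over.mk (specAlg (f i) ≫ ((specOver a).obj (op B)).hom) :=
    overEqIso (X := Spec (CommRingCat.of (D i : Type u)))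
      (Spec.map (CommRingCat.ofHom (algebraMap R (D i : Type u))) ≫ a) (specAlg (f i) ≫ ((specOver a).obj (op B)).hom)
      ((Category.id_comp _).trans (Over.w (siteHom a (f i))))
  have he : siteHom a (f i) = e.hom ≫ Over.homMk (U := Over.mk (specAlg (f i) ≫ ((specOver a).obj (op B)).hom))
      (V := (specOver a).obj (op B)) (specAlg (f i)) rfl := by
    ext : 1
    exact (Category.id_comp _).symm
  exact (congrArg (fun t => T t) he).mpr (T.downward_closed h1 e.hom)

end GrothLib.AdeqMod20
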