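import Groth.Agent.Lib.AdeqMod20.Local

/-!
# Pullback of adequate modules
-/

set_option autoImplicit false
set_option linter.style.haveILetI false
set_option linter.unusedSectionVars false

universe u

open CategoryTheory CategoryTheory.Limits Opposite AlgebraicGeometry

noncomputable section

namespace GrothLib.AdeqMod20

open Adeq GrothLib.Adeq20

variable {K : Precoverage Scheme.{u}} [BigSite.OSh K] [GoodPre K] {S T : Scheme.{u}} (f : T ⟶ S)
  {R : CommRingCat.{u}} (a : Spec R ⟶ T) (M : BigSite.Mod K S)

/-- Reassociation of the structure map of an affine object. -/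
def pullTheta (B : Alg R) : (specOver (a ≫ f)).obj (op B) ≅ (Over.map f).obj ((specOver a).obj (op B)) :=
  overEqIso (X := Spec (CommRingCat.of (B : Type u))) (Spec.map (CommRingCat.ofHom (algebraMap R (B : Type u))) ≫ a ≫ f)
    ((Spec.map (CommRingCat.ofHom (algebraMap R (B : Type u))) ≫ a) ≫ f)
    (by rw [Category.id_comp, Category.assoc])

theorem pullTheta_left (B : Alg R) : (pullTheta f a B).hom.left = 𝟙 (Spec (CommRingCat.of (B : Type u))) := rfl

theorem map_pullTheta (B : Alg R) (b : B) :
    (BigSite.ORing K S).obj.map (pullTheta f a B).hom.op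
        (toSect K (S := T) a B b : ULift.{u + 1} Γ(Spec (CommRingCat.of (B : Type u)), ⊤)) =
      toSect K (S := S) (a ≫ f) B b :=
  map_up (K := K) (Spec.map (CommRingCat.ofHom (algebraMap R (B : Type u))) ≫ a ≫ f)
    ((Spec.map (CommRingCat.ofHom (algebraMap R (B : Type u))) ≫ a) ≫ f)
    (by rw [Category.id_comp, Category.assoc]) ((Scheme.ΓSpecIso (CommRingCat.of (B : Type u))).inv b)

/-- Sections of a pullback over affine objects. -/
theorem pullIso : Nonempty (F K a ((BigSite.pullMod K f).obj M) ≅ F K (a ≫ f) M) := by
  let hh : F K a ((BigSite.pullMod K f).obj M) ⟶ F K (a ≫ f) M :=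
    mkHom (fun B =>
      { toFun := fun x => M.val.map (pullTheta f a B).hom.op x
        map_add' := fun x y => map_add (M.val.map (pullTheta f a B).hom.op).hom x y
        map_smul' := fun b x => by
          refine (M.val.map_smul (pullTheta f a B).hom.op _ x).trans ?_
          refine congrArg₂ (· • ·) ?_ rfl
          exact map_pullTheta f a B b })
      fun B B' g x => natural_sq K M.val (pullTheta f a B).hom (pullTheta f a B').hom
        ((specOver (a ≫ f)).map g.op) ((Over.map f).map ((specOver a).map g.op))
        (CommaMorphism.ext (left_square (X := Spec (CommRingCat.of (B : Type u))) (X' := Spec (CommRingCat.of (B' : Type u)))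
          _ _ (Spec.map (CommRingCat.ofHom g.hom.toRingHom)) (Spec.map (CommRingCat.ofHom g.hom.toRingHom))
          (pullTheta_left f a B) (pullTheta_left f a B') rfl) (Subsingleton.elim _ _)) x
  have hb : ∀ B, Function.Bijective (appL hh B) := fun B =>
    (ConcreteCategory.isIso_iff_bijective (M.val.presheaf.map (pullTheta f a B).hom.op)).1 inferInstance
  haveI : Mono hh := mono_of_injective' hh fun B => (hb B).1
  haveI : Epi hh := epi_of_surjective' hh fun B => (hb B).2
  haveI : IsIso hh := isIso_of_mono_of_epi hh
  exact ⟨asIso hh⟩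

theorem adequateMod_pull (hM : adequateMod K S M) : adequateMod K T ((BigSite.pullMod K f).obj M) := by
  refine adequateMod_of_forall _ fun R a => ?_
  obtain ⟨e⟩ := pullIso f a M
  exact (adequate R).prop_of_iso e.symm (adequate_of_adequateMod (a ≫ f) M hM)

omit f a in
/-- Adequacy is local for the topology. -/
theorem adequateMod_local {ι : Type u} (U : ι → Scheme.{u}) (g : ∀ i, U i ⟶ S)
    (hcov : Presieve.ofArrows U g ∈ K.coverings S)
    (h : ∀ i, adequateMod K (U i) ((BigSite.pullMod K (g i)).obj M)) : adequateMod K S M := by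
  refine adequateMod_of_forall _ fun R a => ?_
  obtain ⟨κ, _, C, hC, hmem⟩ := exists_affine_refinement K R _
    (K.toGrothendieck.pullback_stable a (Precoverage.generate_mem_toGrothendieck hcov))
  refine adequate_of_covering a M hC fun j => ?_
  obtain ⟨W, w, v, hv, hw⟩ := hmem j
  obtain ⟨i⟩ := hv
  obtain ⟨e₁⟩ := towerIso K (a := a) (C j) M.val (w ≫ g i) hw.symm
  obtain ⟨e₂⟩ := pullIso (g i) (R := CommRingCat.of (C j : Type u)) w M
  exact (adequate (C j : Type u)).prop_of_iso (e₂ ≪≫ e₁)
    (adequate_of_adequateMod (R := CommRingCat.of (C j : Type u)) w _ (h i))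

end GrothLib.AdeqMod20
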