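import Groth.Agent.Lib.AdeqMod20.CartanInj
import Groth.Agent.Lib.AdeqMod20.Pull
import Groth.Agent.Lib.AdeqMod20.Affine
import Groth.Agent.Lib.SheafCoh.Shift
import Mathlib.AlgebraicGeometry.Limits
import Mathlib.CategoryTheory.Sites.EpiMono
import Mathlib.AlgebraicGeometry.Sites.Fpqc

/-!
# Cartan's criterion for affine fppf coverings
-/

set_option autoImplicit false
set_option linter.style.haveILetI false
set_option linter.unusedSectionVars false

universe u

open CategoryTheory CategoryTheory.Limits Opposite AlgebraicGeometry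

noncomputable section

namespace GrothLib.AdeqMod20

open Adeq GrothLib.Adeq20

local notation "fppf" => Scheme.fppfPrecoverage

variable {X : Scheme.{u}}

/-- An algebra giving an fppf covering. -/
def CovAlg {R : CommRingCat.{u}} (B : Alg R) : Prop :=
  Flat (specStr B) ∧ LocallyOfFinitePresentation (specStr B) ∧ Surjective (specStr B)

/-- An abelian sheaf with vanishing higher Čech cohomology for affine coverings. -/
def Acyc (G : BigSite.Ab fppf X) : Prop :=
  ∀ (R : CommRingCat.{u}) (a : Spec R ⟶ X) (B : Alg R), CovAlg B → KExact a B G.obj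

theorem acyc_injective (I : BigSite.Ab fppf X) [Injective I] : Acyc I := fun _ a B _ => kExact_injective a B I

theorem sections_exact {C : ShortComplex (BigSite.Ab fppf X)} (hC : C.ShortExact) (U : Over X) :
    Function.Injective (C.f.hom.app (op U)) ∧
      ∀ x, C.g.hom.app (op U) x = 0 ↔ ∃ y, C.f.hom.app (op U) y = x := by
  let G := sheafToPresheaf (QuotSh.J fppf X) AddCommGrpCat.{u + 1} ⋙ (evaluation _ _).obj (op U)
  haveI := hC.mono_f
  haveI : Mono (G.map C.f) := inferInstance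
  haveI : PreservesLimit (parallelPair C.g 0) G := inferInstance
  have hex : (C.map G).Exact := hC.exact.map_of_mono_of_preservesKernel G hC.mono_f inferInstance
  refine ⟨(AddCommGrpCat.mono_iff_injective _).1 (inferInstanceAs (Mono (G.map C.f))), fun x => ⟨fun hx => ?_, ?_⟩⟩
  · exact (ShortComplex.ab_exact_iff _).1 hex x hx
  · rintro ⟨y, rfl⟩
    exact ConcreteCategory.congr_hom (C.map G).zero y

theorem map_comp_app (G : (Over X)ᵒᵖ ⥤ AddCommGrpCat.{u + 1}) {U V W : Over X} (f : U ⟶ V) (g : V ⟶ W) (x : G.obj (op W)) :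
    G.map f.op (G.map g.op x) = G.map (f ≫ g).op x :=
  (ConcreteCategory.congr_hom (G.map_comp g.op f.op) x).symm

theorem subsingleton_of_isEmpty (G : BigSite.Ab fppf X) (U : Over X) [IsEmpty U.left] : Subsingleton (G.obj.obj (op U)) := by
  have hs := G.property
  rw [Presheaf.isSheaf_iff_isSheaf_forget _ _ (forget AddCommGrpCat.{u + 1}), isSheaf_iff_isSheaf_of_type] at hs
  have hbot : (⊥ : Sieve U) ∈ QuotSh.J fppf X U := mem_J_of_opens (K := fppf) _ fun x => isEmptyElim x
  exact ⟨fun x y => (hs _ hbot).isSeparatedFor.ext fun V g hg => hg.elim⟩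

theorem exists_lift (C : ShortComplex (BigSite.Ab fppf X)) (hC : C.ShortExact) (h₁ : Acyc C.X₁)
    {R : CommRingCat.{u}} (a : Spec R ⟶ X) (s : C.X₃.obj.obj (op ((Over.map a).obj (aff (algOf R R))))) :
    ∃ t, C.g.hom.app (op ((Over.map a).obj (aff (algOf R R)))) t = s := by
  classical
  haveI := hC.epi_g
  haveI : Sheaf.IsLocallySurjective C.g := (Sheaf.isLocallySurjective_iff_epi' (φ := C.g)).2 inferInstance
  obtain ⟨ι, hfin, D, f, hcov, hmem⟩ := exists_covFam fppf a (B := algOf R R) _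
    (Presheaf.imageSieve_mem (QuotSh.J fppf X) C.g.hom s)
  haveI := hfin
  choose r hr using fun i => (show ∃ r, C.g.hom.app (op ((Over.map a).obj (aff (D i)))) r =
    C.X₃.obj.map ((Over.map a).map (affHom (f i))).op s from hmem i)
  let Dp : Alg R := algOf R (∀ i, (D i : Type u))
  let e : ∀ i, Dp ⟶ D i := fun i => CommAlgCat.ofHom (Pi.evalAlgHom R (fun i => (D i : Type u)) i)
  let p : algOf R R ⟶ Dp := CommAlgCat.ofHom (Algebra.ofId R (∀ i, (D i : Type u)))
  have hf : ∀ i, f i = p ≫ e i := fun i => ConcreteCategory.hom_ext _ _ fun r => ((f i).hom.commutes r).trans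
    ((p ≫ e i).hom.commutes r).symm
  let R' : ι → CommRingCat.{u} := fun i => CommRingCat.of (D i : Type u)
  haveI hoi : ∀ i, IsOpenImmersion ((Over.map a).map (affHom (e i))).left := fun i => by
    change IsOpenImmersion (Spec.map (CommRingCat.ofHom (Pi.evalRingHom (fun i => (R' i : Type u)) i)))
    rw [← ι_sigmaSpec R' i]
    infer_instance
  have hsurj : ∀ x : ((Over.map a).obj (aff Dp)).left, ∃ i y, ((Over.map a).map (affHom (e i))).left y = x := fun x => by
    obtain ⟨z, hz⟩ : ∃ z, sigmaSpec R' z = x := ⟨inv (sigmaSpec R') x, by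
      rw [← Scheme.Hom.comp_apply, IsIso.inv_hom_id]
      rfl⟩
    obtain ⟨i, y, rfl⟩ := (sigmaOpenCover fun i => Spec (R' i)).exists_eq z
    refine ⟨i, y, Eq.trans ?_ hz⟩
    exact (congrArg (fun t : Spec (R' i) ⟶ Spec (CommRingCat.of (∀ i, R' i)) => t y) (ι_sigmaSpec R' i)).symm.trans
      (Scheme.Hom.comp_apply _ _ _)
  have hcovD : Sieve.generate (Presieve.ofArrows _ fun i => (Over.map a).map (affHom (e i))) ∈
      QuotSh.J fppf X ((Over.map a).obj (aff Dp)) :=
    mem_J_of_opens_arrows (K := fppf) _ hsurj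
  have hcomp : Presieve.Arrows.Compatible (C.X₂.obj ⋙ forget AddCommGrpCat.{u + 1})
      (fun i => (Over.map a).map (affHom (e i))) r := by
    intro i j Z gi gj w
    by_cases hij : i = j
    · subst hij
      haveI := hoi i
      rw [show gi = gj from Over.OverMorphism.ext ((cancel_mono ((Over.map a).map (affHom (e i))).left).1
        (congrArg CommaMorphism.left w))]
    · haveI : IsEmpty Z.left := ⟨fun z => hij (by
        have h1 : Sigma.ι (fun i => Spec (R' i)) i (gi.left z) = Sigma.ι (fun i => Spec (R' i)) j (gj.left z) := by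
          apply (sigmaSpec R').isOpenEmbedding.injective
          refine ((Scheme.Hom.comp_apply _ _ _).symm.trans (congrArg (fun t : Spec (R' i) ⟶ _ => t (gi.left z)) (ι_sigmaSpec R' i))).trans
            (Eq.trans ?_ ((Scheme.Hom.comp_apply _ _ _).symm.trans (congrArg (fun t : Spec (R' j) ⟶ _ => t (gj.left z)) (ι_sigmaSpec R' j))).symm)
          exact congrArg (fun t : Z ⟶ (Over.map a).obj (aff Dp) => t.left z) w
        exact congrArg Sigma.fst ((sigmaι_eq_iff (fun i => Spec (R' i)) i j _ _).1 h1))⟩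
      exact (subsingleton_of_isEmpty C.X₂ Z).elim _ _
  have hs₂ := C.X₂.property
  rw [Presheaf.isSheaf_iff_isSheaf_forget _ _ (forget AddCommGrpCat.{u + 1}), isSheaf_iff_isSheaf_of_type] at hs₂
  obtain ⟨v₀, hv₀, -⟩ := (Presieve.isSheafFor_arrows_iff _ _).1
    ((Presieve.isSheafFor_iff_generate _).2 (hs₂ _ hcovD)) r hcomp
  obtain ⟨v, hv⟩ : ∃ v : C.X₂.obj.obj (op ((Over.map a).obj (aff Dp))),
      ∀ i, C.X₂.obj.map ((Over.map a).map (affHom (e i))).op v = r i := ⟨v₀, hv₀⟩
  have hgv : C.g.hom.app (op ((Over.map a).obj (aff Dp))) v = C.X₃.obj.map ((Over.map a).map (affHom p)).op s := by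
    have hs₃ := C.X₃.property
    rw [Presheaf.isSheaf_iff_isSheaf_forget _ _ (forget AddCommGrpCat.{u + 1}), isSheaf_iff_isSheaf_of_type] at hs₃
    refine ((Presieve.isSheafFor_iff_generate _).2 (hs₃ _ hcovD)).isSeparatedFor.ext fun Y g hg => ?_
    obtain ⟨i⟩ := hg
    refine ((NatTrans.naturality_apply C.g.hom _ v).symm.trans (congrArg _ (hv i))).trans ((hr i).trans ?_)
    refine Eq.trans ?_ (map_comp_app C.X₃.obj _ _ s).symm
    rw [hf i, affHom_comp, Functor.map_comp]
  have hP : (@Flat ⊓ @LocallyOfFinitePresentation : MorphismProperty Scheme.{u}) (specStr Dp) := by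
    haveI : IsZariskiLocalAtSource (@Flat : MorphismProperty Scheme.{u}) := HasRingHomProperty.instIsZariskiLocalAtSource
    haveI : IsZariskiLocalAtSource (@LocallyOfFinitePresentation : MorphismProperty Scheme.{u}) :=
      HasRingHomProperty.instIsZariskiLocalAtSource
    haveI : IsZariskiLocalAtSource (@Flat ⊓ @LocallyOfFinitePresentation : MorphismProperty Scheme.{u}) :=
      MorphismProperty.IsLocalAtSource.inf (@Flat : MorphismProperty Scheme.{u}) (@LocallyOfFinitePresentation : MorphismProperty Scheme.{u})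
    refine (MorphismProperty.cancel_left_of_respectsIso (@Flat ⊓ @LocallyOfFinitePresentation : MorphismProperty Scheme.{u})
      (sigmaSpec R') (specStr Dp)).1 ?_
    have heq : sigmaSpec R' ≫ specStr Dp = Sigma.desc fun i => specStr (D i) := Sigma.hom_ext _ _ fun i => by
      rw [Sigma.ι_desc, ← Category.assoc, ι_sigmaSpec]
      exact specStr_comp (e i)
    rw [heq]
    refine IsZariskiLocalAtSource.sigmaDesc fun i => ?_
    have hw : specAlg (f i) = specStr (D i) := by
      refine (Category.comp_id _).symm.trans ((congrArg (specAlg (f i) ≫ ·) ?_).trans (specStr_comp (f i)))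
      exact (Spec.map_id _).symm
    rw [← hw]
    exact ((Scheme.ofArrows_mem_precoverage_iff _).1 hcov).2 i
  have hB : CovAlg Dp := by
    refine ⟨hP.1, hP.2, ⟨fun x => ?_⟩⟩
    obtain ⟨i, y, hy⟩ := ((Scheme.ofArrows_mem_precoverage_iff _).1 hcov).1 x
    refine ⟨((Over.map a).map (affHom (e i))).left y, Eq.trans ?_ hy⟩
    refine ((Scheme.Hom.comp_apply _ _ _).symm.trans (congrArg (fun t : Spec _ ⟶ Spec R => t y) (specStr_comp (e i)))).trans ?_
    refine congrArg (fun t : Spec (CommRingCat.of (D i : Type u)) ⟶ Spec R => t y) ?_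
    refine (specStr_comp (f i)).symm.trans ((congrArg (specAlg (f i) ≫ ·) ?_).trans (Category.comp_id _))
    exact Spec.map_id _
  let W₁ := (Over.map a).obj (aff (tpow Dp 1))
  let d0 : W₁ ⟶ (Over.map a).obj (aff Dp) := (Over.map a).map (affHom (faceT Dp 0 0))
  let d1 : W₁ ⟶ (Over.map a).obj (aff Dp) := (Over.map a).map (affHom (faceT Dp 0 1))
  have hd : d0 ≫ (Over.map a).map (affHom p) = d1 ≫ (Over.map a).map (affHom p) := by
    rw [← Functor.map_comp, ← Functor.map_comp]
    exact congrArg _ ((affHom_comp p (faceT Dp 0 0)).symm.trans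
      ((congrArg affHom ((str_comp (faceT Dp 0 0)).trans (str_comp (faceT Dp 0 1)).symm)).trans (affHom_comp p (faceT Dp 0 1))))
  obtain ⟨w, hw⟩ := ((sections_exact hC W₁).2 (C.X₂.obj.map d0.op v - C.X₂.obj.map d1.op v)).1 (by
    rw [map_sub, NatTrans.naturality_apply, NatTrans.naturality_apply, hgv, map_comp_app, map_comp_app, hd, sub_self])
  have hd1 : ∀ (G : (Over X)ᵒᵖ ⥤ AddCommGrpCat.{u + 1}) (z : G.obj (op ((Over.map a).obj (aff Dp)))),
      (∑ k : Fin (0 + 2), (-1 : ℤ) ^ (k : ℕ) • G.map ((Over.map a).map (affHom (faceT Dp 0 k))).op z) =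
        G.map d0.op z - G.map d1.op z := fun G z => by
    rw [Fin.sum_univ_two, Fin.val_zero, Fin.val_one, pow_zero, pow_one, one_zsmul, neg_one_zsmul, ← sub_eq_add_neg]
    rfl
  have hcoc : (∑ k : Fin (0 + 3), (-1 : ℤ) ^ (k : ℕ) • C.X₁.obj.map ((Over.map a).map (affHom (faceT Dp 1 k))).op w) = 0 := by
    apply (sections_exact hC _).1
    rw [map_sum, map_zero]
    simp only [map_zsmul, NatTrans.naturality_apply]
    have hw' : C.f.hom.app (op ((Over.map a).obj (aff (tpow Dp 1)))) w = _ := hw.trans (hd1 C.X₂.obj v).symm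
    rw [hw']
    obtain ⟨z, hz⟩ := (cCoord_bijective Dp ((Over.map a).op ⋙ C.X₂.obj) 0).2 v
    rw [← hz, ← kc_d a Dp C.X₂.obj 0 z, ← kc_d a Dp C.X₂.obj 1]
    exact (congrArg (kc a Dp C.X₂.obj 2) (ConcreteCategory.congr_hom ((kx a Dp C.X₂.obj).d_comp_d 0 1 2) z)).trans
      (map_zero (kc a Dp C.X₂.obj 2).hom)
  obtain ⟨y, hy⟩ := h₁ R a Dp hB 0 w hcoc
  let v' := v - C.f.hom.app (op ((Over.map a).obj (aff Dp))) y
  have hdv : C.X₂.obj.map d0.op v' = C.X₂.obj.map d1.op v' := by
    refine sub_eq_zero.1 ?_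
    rw [← (hd1 C.X₁.obj y).symm.trans hy] at hw
    rw [map_sub, map_sub, sub_sub_sub_comm, ← NatTrans.naturality_apply C.f.hom d0.op y, ← NatTrans.naturality_apply C.f.hom d1.op y,
      ← map_sub (C.f.hom.app (op W₁)).hom, sub_eq_zero]
    exact hw.symm
  haveI := hB.2.2
  have hcovp : Sieve.ofArrows (fun _ : PUnit.{u + 1} => (Over.map a).obj (aff Dp)) (fun _ => siteHom a p) ∈
      QuotSh.J fppf X ((Over.map a).obj (aff (algOf R R))) :=
    sieve_mem a (f := fun _ : PUnit.{u + 1} => p) ((Scheme.ofArrows_mem_precoverage_iff _).2 ⟨fun x => by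
      obtain ⟨y, hy⟩ := (specStr Dp).surjective x
      refine ⟨PUnit.unit, y, Eq.trans ?_ hy⟩
      refine congrArg (fun t : Spec _ ⟶ Spec R => t y) ?_
      exact ((specStr_comp p).symm.trans ((congrArg (specAlg p ≫ ·) (Spec.map_id _)).trans (Category.comp_id _))).symm,
      fun _ => by
        have hw : specAlg p = specStr Dp :=
          ((specStr_comp p).symm.trans ((congrArg (specAlg p ≫ ·) (Spec.map_id _)).trans (Category.comp_id _))).symm
        rw [hw]
        exact hP⟩)
  have hp : siteHom a p = (Over.map a).map (affHom p) := rfl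
  have hcompv : Presieve.Arrows.Compatible (C.X₂.obj ⋙ forget AddCommGrpCat.{u + 1})
      (fun _ : PUnit.{u + 1} => siteHom a p) (fun _ => v') := by
    intro i j Z gi gj w
    have hb : gj.left ≫ specStr Dp = gi.left ≫ specStr Dp := by
      have hpp : specAlg p = specStr Dp :=
        ((specStr_comp p).symm.trans ((congrArg (specAlg p ≫ ·) (Spec.map_id _)).trans (Category.comp_id _))).symm
      have h := congrArg CommaMorphism.left w
      exact (congrArg (gj.left ≫ ·) hpp.symm).trans (h.symm.trans (congrArg (gi.left ≫ ·) hpp))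
    let Z' : Over (Spec R) := Over.mk (gi.left ≫ specStr Dp)
    obtain ⟨m, hm, -⟩ := tpow_lift Dp 1 Z' (Fin.cons (Over.homMk gi.left rfl) fun _ => Over.homMk gj.left hb)
    have hm' : m.left ≫ specStr (tpow Dp 1) = gi.left ≫ specStr Dp := Over.w m
    let γ : Z ⟶ W₁ := Over.homMk m.left (by
      change m.left ≫ specStr (tpow Dp 1) ≫ a = Z.hom
      exact ((Category.assoc _ _ _).symm.trans (congrArg (· ≫ a) hm')).trans ((Category.assoc _ _ _).trans (Over.w gi)))
    have hp0 : prT Dp 1 (0 : Fin 2) = faceT Dp 0 1 := rfl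
    have hp1 : prT Dp 1 (1 : Fin 2) = faceT Dp 0 0 := (Category.id_comp _).trans rfl
    have h1 : gi = γ ≫ d1 := Over.OverMorphism.ext ((congrArg CommaMorphism.left (hm 0)).symm.trans (by rw [hp0]; rfl))
    have h2 : gj = γ ≫ d0 := Over.OverMorphism.ext ((congrArg CommaMorphism.left (hm 1)).symm.trans (by rw [hp1]; rfl))
    rw [h1, h2]
    exact (map_comp_app C.X₂.obj γ d1 v').symm.trans ((congrArg _ hdv.symm).trans (map_comp_app C.X₂.obj γ d0 v'))
  obtain ⟨t, ht, -⟩ := (Presieve.isSheafFor_arrows_iff _ _).1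
    ((Presieve.isSheafFor_iff_generate _).2 (hs₂ _ hcovp)) (fun _ => v') hcompv
  refine ⟨t, ?_⟩
  have hs₃ := C.X₃.property
  rw [Presheaf.isSheaf_iff_isSheaf_forget _ _ (forget AddCommGrpCat.{u + 1}), isSheaf_iff_isSheaf_of_type] at hs₃
  refine ((Presieve.isSheafFor_iff_generate _).2 (hs₃ _ hcovp)).isSeparatedFor.ext fun Y g hg => ?_
  obtain ⟨i⟩ := hg
  refine ((NatTrans.naturality_apply C.g.hom _ t).symm.trans (congrArg _ (ht i))).trans ?_
  rw [map_sub, ((sections_exact hC ((Over.map a).obj (aff Dp))).2 _).2 ⟨y, rfl⟩, sub_zero, hgv]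
  rfl

theorem exists_lift_affine (C : ShortComplex (BigSite.Ab fppf X)) (hC : C.ShortExact) (h₁ : Acyc C.X₁)
    (U : Over X) [IsAffine U.left] (s : C.X₃.obj.obj (op U)) : ∃ t, C.g.hom.app (op U) t = s := by
  let a : Spec Γ(U.left, ⊤) ⟶ X := U.left.isoSpec.inv ≫ U.hom
  have hid : specStr (algOf Γ(U.left, ⊤) Γ(U.left, ⊤)) = 𝟙 _ := Spec.map_id _
  let e : U ≅ (Over.map a).obj (aff (algOf Γ(U.left, ⊤) Γ(U.left, ⊤))) := Over.isoMk U.left.isoSpec (by
    change U.left.isoSpec.hom ≫ specStr (algOf Γ(U.left, ⊤) Γ(U.left, ⊤)) ≫ a = U.hom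
    rw [hid]
    erw [Category.id_comp]
    exact Iso.hom_inv_id_assoc _ _)
  obtain ⟨t, ht⟩ := exists_lift C hC h₁ a (C.X₃.obj.map e.inv.op s)
  refine ⟨C.X₂.obj.map e.hom.op t, (NatTrans.naturality_apply C.g.hom e.hom.op t).trans ?_⟩
  rw [ht, map_comp_app, e.hom_inv_id, op_id, C.X₃.obj.map_id]
  rfl

theorem acyc_quotient (C : ShortComplex (BigSite.Ab fppf X)) (hC : C.ShortExact) (h₁ : Acyc C.X₁) (h₂ : Acyc C.X₂) :
    Acyc C.X₃ := by
  intro R a B hB n x hx
  haveI : ∀ m, IsAffine ((Over.map a).obj (aff (tpow B m))).left := fun m =>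
    inferInstanceAs (IsAffine (Spec (CommRingCat.of (tpow B m : Type u))))
  obtain ⟨i, hi⟩ := exists_lift_affine C hC h₁ _ x
  have hnat : ∀ (m : ℕ) (z : C.X₂.obj.obj (op ((Over.map a).obj (aff (tpow B m))))),
      C.g.hom.app (op ((Over.map a).obj (aff (tpow B (m + 1)))))
        (∑ k : Fin (m + 2), (-1 : ℤ) ^ (k : ℕ) • C.X₂.obj.map ((Over.map a).map (affHom (faceT B m k))).op z) =
      ∑ k : Fin (m + 2), (-1 : ℤ) ^ (k : ℕ) •
        C.X₃.obj.map ((Over.map a).map (affHom (faceT B m k))).op (C.g.hom.app _ z) := fun m z => by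
    rw [map_sum]
    simp only [map_zsmul, NatTrans.naturality_apply]
  obtain ⟨w, hw⟩ := ((sections_exact hC _).2 _).1 ((hnat (n + 1) i).trans (by rw [hi]; exact hx))
  have hcoc : (∑ k : Fin (n + 1 + 3), (-1 : ℤ) ^ (k : ℕ) • C.X₁.obj.map ((Over.map a).map (affHom (faceT B (n + 2) k))).op w) = 0 := by
    apply (sections_exact hC _).1
    rw [map_sum, map_zero]
    simp only [map_zsmul, NatTrans.naturality_apply, hw]
    obtain ⟨z, hz⟩ := (cCoord_bijective B ((Over.map a).op ⋙ C.X₂.obj) (n + 1)).2 i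
    rw [← hz, ← kc_d a B C.X₂.obj (n + 1) z, ← kc_d a B C.X₂.obj (n + 2)]
    exact (congrArg (kc a B C.X₂.obj (n + 3)) (ConcreteCategory.congr_hom ((kx a B C.X₂.obj).d_comp_d (n + 1) (n + 2) (n + 3)) z)).trans
      (map_zero (kc a B C.X₂.obj (n + 3)).hom)
  obtain ⟨y, hy⟩ := h₁ R a B hB (n + 1) w hcoc
  obtain ⟨j, hj⟩ := h₂ R a B hB n (i - C.f.hom.app _ y) (by
    simp only [map_sub, smul_sub, Finset.sum_sub_distrib]
    rw [← hw, ← hy, map_sum, sub_eq_zero]
    simp only [map_zsmul, NatTrans.naturality_apply])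
  refine ⟨C.g.hom.app _ j, (hnat n j).symm.trans ?_⟩
  rw [hj, map_sub, ((sections_exact hC _).2 _).2 ⟨y, rfl⟩, sub_zero, hi]

/-- Acyclic sheaves for affine coverings have no higher cohomology on an affine base. -/
theorem subsingleton_H_of_acyc [IsAffine X] (G : BigSite.Ab fppf X) (hG : Acyc G) (n : ℕ) :
    Subsingleton (BigSite.H fppf X G (n + 1)) := by
  refine GrothLib.SheafCoh.subsingleton_of_class _ Acyc (fun G hG => ⟨acyc_quotient (GrothLib.SheafCoh.injSES G)
    (GrothLib.SheafCoh.injSES_shortExact G) hG (acyc_injective _), fun g => ?_⟩) G hG n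
  let hT : IsTerminal (Over.mk (𝟙 X)) := Over.mkIdTerminal
  let C := GrothLib.SheafCoh.injSES G
  haveI : IsAffine (Over.mk (𝟙 X)).left := ‹IsAffine X›
  obtain ⟨t, ht⟩ := exists_lift_affine C (GrothLib.SheafCoh.injSES_shortExact G) hG (Over.mk (𝟙 X))
    (Sheaf.H.equiv₀ C.X₃ hT (Abelian.Ext.mk₀ g))
  refine ⟨Abelian.Ext.addEquiv₀ ((Sheaf.H.equiv₀ C.X₂ hT).symm t), ?_⟩
  refine (Sheaf.H.addEquiv₀_map C.g _).symm.trans ?_
  rw [Sheaf.H.equiv₀_symm_naturality, ht, AddEquiv.symm_apply_apply]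
  exact Abelian.Ext.addEquiv₀.apply_symm_apply g

theorem acyc_of_adequateMod {S : Scheme.{u}} (M : BigSite.Mod fppf S) (hM : adequateMod fppf S M) :
    Acyc ((BigSite.toAbMod fppf S).obj M) := fun R a B hB => by
  haveI : Module.FaithfullyFlat R (B : Type u) := by
    haveI : Module.Flat R (B : Type u) := RingHom.flat_algebraMap_iff.1 ((HasRingHomProperty.Spec_iff (P := @Flat)).1 hB.1)
    exact Module.FaithfullyFlat.of_comap_surjective hB.2.2.surj
  exact kExact_of_exactAt a B _ (cech_exactAt B a M hM)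

end GrothLib.AdeqMod20
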