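import Groth.Agent.Lib.AdeqMod20.CechAffine
import Mathlib.CategoryTheory.Sites.Sheafification
import Mathlib.CategoryTheory.Preadditive.Injective.Basic
import Mathlib.Algebra.Category.Grp.EpiMono
import Mathlib.CategoryTheory.Abelian.FunctorCategory

/-!
# Čech complexes of affine coverings for injective abelian sheaves
-/

set_option autoImplicit false
set_option linter.style.haveILetI false
set_option linter.unusedSectionVars false

universe u

open CategoryTheory CategoryTheory.Limits Opposite AlgebraicGeometry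

noncomputable section

namespace GrothLib.AdeqMod20

open Adeq GrothLib.Adeq20

variable {X : Scheme.{u}} {R : CommRingCat.{u}} (a : Spec R ⟶ X) (B : Alg R)

/-- The Čech complex of an affine covering in the big site. -/
abbrev kx (G : (Over X)ᵒᵖ ⥤ AddCommGrpCat.{u + 1}) : CochainComplex AddCommGrpCat.{u + 1} ℕ :=
  cechCx B ((Over.map a).op ⋙ G)

variable (G : (Over X)ᵒᵖ ⥤ AddCommGrpCat.{u + 1})

/-- The coordinate of a cochain on an affine object over `X`. -/
abbrev kc (n : ℕ) : (kx a B G).X n ⟶ G.obj (op ((Over.map a).obj (aff (tpow B n)))) :=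
  cCoord B ((Over.map a).op ⋙ G) n

theorem kc_d (n : ℕ) (x : (kx a B G).X n) :
    kc a B G (n + 1) ((kx a B G).d n (n + 1) x) =
      ∑ k : Fin (n + 2), (-1 : ℤ) ^ (k : ℕ) • G.map ((Over.map a).map (affHom (faceT B n k))).op (kc a B G n x) := by
  let e : ((kx a B G).X n ⟶ G.obj (op ((Over.map a).obj (aff (tpow B (n + 1)))))) →+
      G.obj (op ((Over.map a).obj (aff (tpow B (n + 1))))) := AddMonoidHom.mk' (fun φ => φ x) fun _ _ => rfl
  refine (congrArg e (cCoord_d B ((Over.map a).op ⋙ G) n)).trans ?_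
  exact (map_sum e _ _).trans (Finset.sum_congr rfl fun k _ => map_zsmul e _ _)

theorem kc_natural {G' : (Over X)ᵒᵖ ⥤ AddCommGrpCat.{u + 1}} (φ : G ⟶ G') (n : ℕ) (x : (kx a B G).X n) :
    kc a B G' n (((cechComplexFunctor (fun _ : PUnit.{u + 2} => aff B)).map
        (Functor.whiskerLeft (Over.map a).op φ)).f n x) = φ.app _ (kc a B G n x) := by
  have h1 : ((cechComplexFunctor (fun _ : PUnit.{u + 2} => aff B)).map (Functor.whiskerLeft (Over.map a).op φ)).f n ≫
      cEv B ((Over.map a).op ⋙ G') n = cEv B ((Over.map a).op ⋙ G) n ≫ φ.app _ :=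
    Pi.map_π (fun _ : Fin (n + 1) → PUnit.{u + 2} => φ.app (op ((Over.map a).obj (∏ᶜ fun _ : Fin (n + 1) => aff B))))
      fun _ => PUnit.unit
  refine (congrArg _ (ConcreteCategory.congr_hom h1 x)).trans ?_
  exact (NatTrans.naturality_apply φ ((Over.map a).map (tpowProd B n).hom).op (cEv B ((Over.map a).op ⋙ G) n x)).symm

/-- The exactness of the Čech complex, in coordinates. -/
def KExact : Prop :=
  ∀ (n : ℕ) (x : G.obj (op ((Over.map a).obj (aff (tpow B (n + 1)))))),
    (∑ k : Fin (n + 3), (-1 : ℤ) ^ (k : ℕ) • G.map ((Over.map a).map (affHom (faceT B (n + 1) k))).op x) = 0 →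
      ∃ y, (∑ k : Fin (n + 2), (-1 : ℤ) ^ (k : ℕ) • G.map ((Over.map a).map (affHom (faceT B n k))).op y) = x

theorem exactAt_of_kExact (h : KExact a B G) (n : ℕ) : (kx a B G).ExactAt (n + 1) := by
  rw [HomologicalComplex.exactAt_iff' _ n (n + 1) (n + 2) (by simp) (by simp), ShortComplex.ab_exact_iff]
  intro x hx
  obtain ⟨y, hy⟩ := h n (kc a B G (n + 1) x)
    ((kc_d a B G (n + 1) x).symm.trans ((congrArg (kc a B G (n + 2)) hx).trans (map_zero (kc a B G (n + 2)).hom)))
  obtain ⟨z, rfl⟩ := (cCoord_bijective B ((Over.map a).op ⋙ G) n).2 y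
  exact ⟨z, (cCoord_bijective B ((Over.map a).op ⋙ G) (n + 1)).1 ((kc_d a B G n z).trans hy)⟩

theorem kExact_of_exactAt (h : ∀ n, (kx a B G).ExactAt (n + 1)) : KExact a B G := by
  intro n x hx
  obtain ⟨z, rfl⟩ := (cCoord_bijective B ((Over.map a).op ⋙ G) (n + 1)).2 x
  have hn := h n
  rw [HomologicalComplex.exactAt_iff' _ n (n + 1) (n + 2) (by simp) (by simp), ShortComplex.ab_exact_iff] at hn
  obtain ⟨w, hw⟩ := hn z ((cCoord_bijective B ((Over.map a).op ⋙ G) (n + 2)).1
    (((kc_d a B G (n + 1) z).trans hx).trans (map_zero (kc a B G (n + 2)).hom).symm))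
  exact ⟨kc a B G n w, (kc_d a B G n w).symm.trans (congrArg _ hw)⟩

section Godement

variable (A : Over X → AddCommGrpCat.{u + 1})

/-- The presheaf `W ↦ ∏_{V → W} A V`. -/
def gdm : (Over X)ᵒᵖ ⥤ AddCommGrpCat.{u + 1} where
  obj W := AddCommGrpCat.of (∀ V : Over X, (V ⟶ W.unop) → A V)
  map f := AddCommGrpCat.ofHom
    { toFun := fun s V g => s V (g ≫ f.unop)
      map_zero' := rfl
      map_add' := fun _ _ => rfl }
  map_id W := by
    ext s V g
    simp
  map_comp f g := by
    ext s V h
    simp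

/-- A point of the covering object over a morphism to the base. -/
abbrev toV (V : Over X) {C : Alg R} {b : V.left ⟶ Spec R} (hb : b ≫ a = V.hom) (h : Over.mk b ⟶ aff C) :
    V ⟶ (Over.map a).obj (aff C) :=
  Over.homMk h.left (by
    change h.left ≫ specStr C ≫ a = V.hom
    rw [← Category.assoc]
    exact (congrArg (· ≫ a) (Over.w h)).trans hb)

theorem exists_cons (Z : Over (Spec R)) : ∃ c : ∀ n : ℕ, (Z ⟶ aff (tpow B n)) → (Z ⟶ aff (tpow B (n + 1))),
    ∀ n (g : Z ⟶ aff (tpow B n)), c n g ≫ affHom (faceT B n 0) = g ∧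
      ∀ j : Fin (n + 2), ∀ g' : Z ⟶ aff (tpow B (n + 1)),
        c (n + 1) g' ≫ affHom (faceT B (n + 1) j.succ) = c n (g' ≫ affHom (faceT B n j)) := by
  by_cases hZ : Nonempty (Z ⟶ aff B)
  · let s := hZ.some
    choose c hc hu using fun (n : ℕ) (g : Z ⟶ aff (tpow B n)) =>
      tpow_lift B (n + 1) Z (Fin.cons s fun l => g ≫ affHom (prT B n l))
    refine ⟨c, fun n g => ⟨?_, fun j g' => ?_⟩⟩
    · refine (tpow_lift B n Z fun l => g ≫ affHom (prT B n l)).unique (fun l => ?_) fun l => rfl
      rw [Category.assoc, ← affHom_comp, prT_faceT, Fin.zero_succAbove, hc n g l.succ, Fin.cons_succ]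
    · refine hu n _ _ fun l => ?_
      rw [Category.assoc, ← affHom_comp, prT_faceT]
      induction l using Fin.cases with
      | zero => rw [Fin.succ_succAbove_zero, hc (n + 1) g' 0, Fin.cons_zero, Fin.cons_zero]
      | succ l => rw [Fin.succ_succAbove_succ, hc (n + 1) g' _, Fin.cons_succ, Fin.cons_succ, Category.assoc,
          ← affHom_comp, prT_faceT]
  · exact ⟨fun n g => (hZ ⟨g ≫ affHom (prT B n 0)⟩).elim, fun n g => (hZ ⟨g ≫ affHom (prT B n 0)⟩).elim⟩

theorem kExact_gdm : KExact a B (gdm A) := by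
  classical
  intro n x hx
  choose c hc using fun Z : Over (Spec R) => exists_cons B Z
  let y : (gdm A).obj (op ((Over.map a).obj (aff (tpow B n)))) := fun V g =>
    x V (toV a V (b := g.left ≫ specStr (tpow B n)) ((Category.assoc _ _ _).trans (Over.w g))
      (c _ n (Over.homMk g.left rfl)))
  have hy : ∀ (V : Over X) (b : V.left ⟶ Spec R) (hb : b ≫ a = V.hom) (g : Over.mk b ⟶ aff (tpow B n)),
      y V (toV a V hb g) = x V (toV a V hb (c _ n g)) := fun V b hb g => by
    have key : ∀ (l : V.left ⟶ Spec (CommRingCat.of (tpow B n : Type u))) (hl : l ≫ specStr (tpow B n) = b),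
        y V (toV a V hb (Over.homMk l hl)) = x V (toV a V hb (c (Over.mk b) n (Over.homMk l hl))) := fun l hl => by
      subst hl
      rfl
    exact key g.left (Over.w g)
  refine ⟨y, funext fun V => funext fun g => ?_⟩
  let b := g.left ≫ specStr (tpow B (n + 1))
  have hb : b ≫ a = V.hom := (Category.assoc _ _ _).trans (Over.w g)
  let g' : Over.mk b ⟶ aff (tpow B (n + 1)) := Over.homMk g.left rfl
  have hg : toV a V hb g' = g := rfl
  let ev : ∀ (m : ℕ) (h : V ⟶ (Over.map a).obj (aff (tpow B m))),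
      (gdm A).obj (op ((Over.map a).obj (aff (tpow B m)))) →+ A V :=
    fun m h => AddMonoidHom.mk' (fun s => (s : ∀ V : Over X, (V ⟶ (Over.map a).obj (aff (tpow B m))) → A V) V h)
      fun _ _ => rfl
  have hmap : ∀ (m : ℕ) (k : Fin (m + 2)) (s : (gdm A).obj (op ((Over.map a).obj (aff (tpow B m)))))
      (h : Over.mk b ⟶ aff (tpow B (m + 1))),
      ev (m + 1) (toV a V hb h) ((gdm A).map ((Over.map a).map (affHom (faceT B m k))).op s) =
        ev m (toV a V hb (h ≫ affHom (faceT B m k))) s := fun m k s h =>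
    congrArg (fun t => ev m t s) (Over.OverMorphism.ext (by rfl))
  have h0 := congrArg (ev (n + 2) (toV a V hb (c _ (n + 1) g'))) hx
  rw [map_zero, map_sum, Fin.sum_univ_succ] at h0
  simp only [map_zsmul] at h0
  rw [hmap, (hc _ (n + 1) g').1, Fin.val_zero, pow_zero, one_zsmul, add_eq_zero_iff_eq_neg, ← Finset.sum_neg_distrib] at h0
  change ev (n + 1) g (∑ k : Fin (n + 2), (-1 : ℤ) ^ (k : ℕ) • (gdm A).map ((Over.map a).map (affHom (faceT B n k))).op y) =
    ev (n + 1) g x
  rw [← hg, map_sum]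
  simp only [map_zsmul]
  refine Eq.trans ?_ h0.symm
  refine Finset.sum_congr rfl fun j _ => ?_
  rw [hmap, hmap, ← neg_smul, Fin.val_succ, pow_succ, mul_neg, mul_one, neg_neg, ((hc _ n (g' ≫ affHom (faceT B n 0))).2 j g')]
  exact congrArg _ (hy V b hb _)

end Godement

theorem kExact_retract {P : (Over X)ᵒᵖ ⥤ AddCommGrpCat.{u + 1}} {A : Over X → AddCommGrpCat.{u + 1}} (i : P ⟶ gdm A)
    (r : gdm A ⟶ P) (hri : i ≫ r = 𝟙 P) : KExact a B P := by
  intro n x hx
  obtain ⟨y, hy⟩ := kExact_gdm a B A n (i.app _ x) (by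
    rw [← map_zero (i.app _).hom, ← hx, map_sum]
    refine Finset.sum_congr rfl fun k _ => ?_
    rw [map_zsmul]
    exact congrArg _ (NatTrans.naturality_apply i _ x).symm)
  refine ⟨r.app _ y, Eq.trans ?_ (ConcreteCategory.congr_hom (congrArg (fun t => NatTrans.app t _) hri) x)⟩
  change _ = r.app _ (i.app _ x)
  rw [← hy, map_sum]
  refine Finset.sum_congr rfl fun k _ => ?_
  rw [map_zsmul]
  exact congrArg _ (NatTrans.naturality_apply r _ y).symm

variable {J : GrothendieckTopology (Over X)} [HasSheafify J AddCommGrpCat.{u + 1}]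

theorem kExact_injective (I : Sheaf J AddCommGrpCat.{u + 1}) [Injective I] : KExact a B I.obj := by
  haveI : Injective I.obj :=
    Injective.injective_of_adjoint (sheafificationAdjunction J AddCommGrpCat.{u + 1}) I
  let A : Over X → AddCommGrpCat.{u + 1} := fun V => I.obj.obj (op V)
  let i : I.obj ⟶ gdm A :=
    { app := fun W => AddCommGrpCat.ofHom
        (AddMonoidHom.mk' (fun x (V : Over X) (g : V ⟶ W.unop) => I.obj.map g.op x)
          (fun x y => funext fun V => funext fun g => map_add (I.obj.map g.op).hom x y))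
      naturality := fun W W' f => by
        ext x
        exact funext fun V => funext fun g =>
          (ConcreteCategory.congr_hom (I.obj.map_comp f g.op) x).symm }
  have : ∀ W, Mono (i.app W) := fun W => (AddCommGrpCat.mono_iff_injective _).2 fun x y hxy => by
    have h := congrFun (congrFun hxy W.unop) (𝟙 _)
    exact (ConcreteCategory.congr_hom (I.obj.map_id W) x).symm.trans (h.trans (ConcreteCategory.congr_hom (I.obj.map_id W) y))
  haveI : Mono i := NatTrans.mono_of_mono_app i
  exact kExact_retract a B i (Injective.factorThru (𝟙 _) i) (Injective.comp_factorThru _ _)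

end GrothLib.AdeqMod20
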