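import Groth.Agent.Lib.AdeqMod20.Local
import Mathlib.AlgebraicGeometry.Restrict

/-!
# Sections of a module over the opens of a base change to affine schemes
-/

set_option autoImplicit false
set_option linter.style.haveILetI false
set_option linter.unusedSectionVars false

universe u

open CategoryTheory CategoryTheory.Limits Opposite AlgebraicGeometry

noncomputable section

namespace GrothLib.AdeqMod20

open Adeq GrothLib.Adeq20

/-- A family of open immersions covering an object generates a covering sieve. -/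
theorem mem_J_of_opens_arrows {K : Precoverage Scheme.{u}} [hK : GoodPre K] {S : Scheme.{u}} {U : Over S} {ι : Type u}
    {X : ι → Over S} (g : ∀ i, X i ⟶ U) [∀ i, IsOpenImmersion (g i).left]
    (h : ∀ x : U.left, ∃ i, ∃ y, (g i).left y = x) : Sieve.generate (Presieve.ofArrows X g) ∈ QuotSh.J K S U := by
  rw [GrothendieckTopology.mem_over_iff]
  obtain ⟨P, rfl, -, -, hop, -, -⟩ := hK.out
  have hcov : Presieve.ofArrows (fun i => (X i).left) (fun i => (g i).left) ∈ (Scheme.precoverage P).coverings U.left :=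
    (Scheme.ofArrows_mem_precoverage_iff P).2 ⟨h, fun i => hop _ inferInstance⟩
  refine (Scheme.precoverage P).toGrothendieck.superset_covering ?_ (Precoverage.generate_mem_toGrothendieck hcov)
  refine (Sieve.generate_le_iff _ _).2 ?_
  rintro Z _ ⟨i⟩
  exact (Sieve.overEquiv_iff _ _).2 (by
    refine ⟨X i, Over.homMk (𝟙 _) ((Category.id_comp _).trans (Over.w (g i)).symm), g i, ⟨i⟩, ?_⟩
    ext : 1
    exact Category.id_comp _)

section

variable {R : CommRingCat.{u}} {P T : Scheme.{u}} (π : P ⟶ T) (q : P ⟶ Spec R)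

/-- The spectrum of the structure map of an algebra. -/
abbrev specStr (B : Alg R) : Spec (CommRingCat.of (B : Type u)) ⟶ Spec R :=
  Spec.map (CommRingCat.ofHom (algebraMap R (B : Type u)))

theorem specStr_comp {B B' : Alg R} (g : B ⟶ B') : Spec.map (CommRingCat.ofHom g.hom.toRingHom) ≫ specStr B = specStr B' := by
  rw [← Spec.map_comp, ← CommRingCat.ofHom_comp, AlgHom.toRingHom_eq_coe, AlgHom.comp_algebraMap]

/-- The base change of `P` to an algebra. -/
abbrev W (B : Alg R) : Scheme.{u} := pullback q (specStr B)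

/-- The projection to `P`. -/
abbrev wFst (B : Alg R) : W q B ⟶ P := pullback.fst q (specStr B)

/-- The functoriality of the base change. -/
def wMap {B B' : Alg R} (g : B ⟶ B') : W q B' ⟶ W q B :=
  pullback.lift (pullback.fst q (specStr B')) (pullback.snd q (specStr B') ≫ Spec.map (CommRingCat.ofHom g.hom.toRingHom))
    (by rw [Category.assoc, specStr_comp]; exact pullback.condition)

theorem wMap_fst {B B' : Alg R} (g : B ⟶ B') : wMap q g ≫ wFst q B = wFst q B' := pullback.lift_fst _ _ _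

theorem wMap_snd {B B' : Alg R} (g : B ⟶ B') :
    wMap q g ≫ pullback.snd q (specStr B) = pullback.snd q (specStr B') ≫ Spec.map (CommRingCat.ofHom g.hom.toRingHom) :=
  pullback.lift_snd _ _ _

theorem wMap_le {B B' : Alg R} (g : B ⟶ B') (U : P.Opens) : wFst q B' ⁻¹ᵁ U ≤ wMap q g ⁻¹ᵁ (wFst q B ⁻¹ᵁ U) := by
  rw [← Scheme.Hom.comp_preimage, wMap_fst]

theorem wMap_id (B : Alg R) : wMap q (𝟙 B) = 𝟙 _ := by
  apply pullback.hom_ext
  · rw [Category.id_comp]
    exact wMap_fst q (𝟙 B)
  · rw [wMap_snd, Category.id_comp]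
    change _ ≫ Spec.map (CommRingCat.ofHom (RingHom.id _)) = _
    rw [CommRingCat.ofHom_id]
    erw [Spec.map_id]
    exact Category.comp_id _

theorem wMap_comp {B B' B'' : Alg R} (g : B ⟶ B') (g' : B' ⟶ B'') : wMap q (g ≫ g') = wMap q g' ≫ wMap q g := by
  apply pullback.hom_ext
  · rw [Category.assoc]
    exact (wMap_fst q (g ≫ g')).trans ((congrArg _ (wMap_fst q g)).trans (wMap_fst q g')).symm
  · rw [Category.assoc, wMap_snd, wMap_snd, ← Category.assoc, wMap_snd, Category.assoc]
    refine congrArg (pullback.snd q (specStr B'') ≫ ·) ?_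
    rw [← Spec.map_comp]
    rfl

/-- The object of the big site of `T` attached to an open and an algebra. -/
abbrev objU (U : P.Opens) (B : Alg R) : Over T := Over.mk ((wFst q B ⁻¹ᵁ U).ι ≫ wFst q B ≫ π)

/-- The functoriality in the algebra. -/
def objMap (U : P.Opens) {B B' : Alg R} (g : B ⟶ B') : objU π q U B' ⟶ objU π q U B :=
  Over.homMk ((wMap q g).resLE _ _ (wMap_le q g U)) (by
    change (wMap q g).resLE _ _ (wMap_le q g U) ≫ (wFst q B ⁻¹ᵁ U).ι ≫ wFst q B ≫ π = (wFst q B' ⁻¹ᵁ U).ι ≫ wFst q B' ≫ π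
    rw [Scheme.Hom.resLE_comp_ι_assoc, ← wMap_fst q g, Category.assoc])

theorem objMap_ι (U : P.Opens) {B B' : Alg R} (g : B ⟶ B') :
    (objMap π q U g).left ≫ (wFst q B ⁻¹ᵁ U).ι = (wFst q B' ⁻¹ᵁ U).ι ≫ wMap q g :=
  Scheme.Hom.resLE_comp_ι _ _

/-- The objects as a functor. -/
def objF (U : P.Opens) : (Alg R)ᵒᵖ ⥤ Over T where
  obj B := objU π q U B.unop
  map g := objMap π q U g.unop
  map_id B := by
    ext : 1
    refine (cancel_mono (wFst q B.unop ⁻¹ᵁ U).ι).1 ((objMap_ι π q U _).trans ?_)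
    rw [unop_id, wMap_id]
    exact (Category.comp_id _).trans (Category.id_comp _).symm
  map_comp {B B' B''} g g' := by
    ext : 1
    refine (cancel_mono (wFst q B''.unop ⁻¹ᵁ U).ι).1 ((objMap_ι π q U _).trans ?_)
    change _ = ((objMap π q U g.unop).left ≫ (objMap π q U g'.unop).left) ≫ _
    rw [Category.assoc, objMap_ι, ← Category.assoc, objMap_ι, Category.assoc, unop_comp, wMap_comp]

variable (K : Precoverage Scheme.{u}) [BigSite.OSh K]

/-- An algebra acts on the sections over its objects. -/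
def sectU (U : P.Opens) (B : Alg R) : (B : Type u) →+* (BigSite.ORing K T).obj.obj (op (objU π q U B)) :=
  ((ULift.ringEquiv.symm : Γ((wFst q B ⁻¹ᵁ U).toScheme, ⊤) ≃+* ULift.{u + 1} Γ((wFst q B ⁻¹ᵁ U).toScheme, ⊤)).toRingHom).comp
    ((((wFst q B ⁻¹ᵁ U).ι ≫ pullback.snd q (specStr B)).appTop.hom).comp
      (Scheme.ΓSpecIso (CommRingCat.of (B : Type u))).inv.hom)

theorem map_sectU (U : P.Opens) {B B' : Alg R} (g : B ⟶ B') (b : B) :
    (BigSite.ORing K T).obj.map (objMap π q U g).op (sectU π q K U B b) = sectU π q K U B' (g.hom b) := by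
  apply ULift.ext
  change ((Scheme.ΓSpecIso (CommRingCat.of (B : Type u))).inv ≫ ((wFst q B ⁻¹ᵁ U).ι ≫ pullback.snd q (specStr B)).appTop ≫
      (objMap π q U g).left.appTop) b =
    (CommRingCat.ofHom g.hom.toRingHom ≫ (Scheme.ΓSpecIso (CommRingCat.of (B' : Type u))).inv ≫
      ((wFst q B' ⁻¹ᵁ U).ι ≫ pullback.snd q (specStr B')).appTop) b
  rw [Scheme.ΓSpecIso_inv_naturality_assoc, ← Scheme.Hom.comp_appTop, ← Scheme.Hom.comp_appTop, ← Category.assoc,
    objMap_ι, Category.assoc, wMap_snd, Category.assoc]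

variable (M : BigSite.Mod K T)

/-- The sections over the objects as abelian groups. -/
def secAb (U : P.Opens) : (Alg R)ᵒᵖᵒᵖ ⥤ Ab.{u + 1} := (objF π q U).op ⋙ M.val.presheaf

instance secModuleO (U : P.Opens) (X : (Alg R)ᵒᵖᵒᵖ) :
    Module ((BigSite.ORing K T).obj.obj (op (objU π q U X.unop.unop))) ((secAb π q K M U).obj X) :=
  (M.val.obj (op (objU π q U X.unop.unop))).isModule

instance secModule (U : P.Opens) (X : (Alg R)ᵒᵖᵒᵖ) : Module X.unop.unop ((secAb π q K M U).obj X) :=
  Module.compHom ((secAb π q K M U).obj X) (sectU π q K U X.unop.unop)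

/-- The functor of sections over an open. -/
def G (U : P.Opens) : MVF R :=
  PresheafOfModules.ofPresheaf (secAb π q K M U) (by
    intro X Y f r m
    refine (M.val.map_smul (objMap π q U f.unop.unop).op (sectU π q K U X.unop.unop r) m).trans ?_
    exact congrArg₂ (· • ·) (map_sectU π q K U f.unop.unop r) rfl)

/-- The inclusion of objects. -/
def objIncl {U V : P.Opens} (h : U ≤ V) (B : Alg R) : objU π q U B ⟶ objU π q V B :=
  Over.homMk ((W q B).homOfLE (show wFst q B ⁻¹ᵁ U ≤ wFst q B ⁻¹ᵁ V from fun _ hx => h hx)) (by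
    change (W q B).homOfLE (show wFst q B ⁻¹ᵁ U ≤ wFst q B ⁻¹ᵁ V from fun _ hx => h hx) ≫ (wFst q B ⁻¹ᵁ V).ι ≫ wFst q B ≫ π = _
    rw [Scheme.homOfLE_ι_assoc]
    rfl)

theorem objIncl_ι {U V : P.Opens} (h : U ≤ V) (B : Alg R) :
    (objIncl π q h B).left ≫ (wFst q B ⁻¹ᵁ V).ι = (wFst q B ⁻¹ᵁ U).ι :=
  Scheme.homOfLE_ι (W q B) (show wFst q B ⁻¹ᵁ U ≤ wFst q B ⁻¹ᵁ V from fun _ hx => h hx)

instance {U V : P.Opens} (h : U ≤ V) (B : Alg R) : IsOpenImmersion (objIncl π q h B).left :=
  inferInstanceAs (IsOpenImmersion ((W q B).homOfLE (show wFst q B ⁻¹ᵁ U ≤ wFst q B ⁻¹ᵁ V from fun _ hx => h hx)))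

theorem objIncl_natural {U V : P.Opens} (h : U ≤ V) {B B' : Alg R} (g : B ⟶ B') :
    objIncl π q h B' ≫ objMap π q V g = objMap π q U g ≫ objIncl π q h B := by
  ext : 1
  refine (cancel_mono (wFst q B ⁻¹ᵁ V).ι).1 ?_
  rw [Over.comp_left, Over.comp_left, Category.assoc, Category.assoc, objMap_ι, objIncl_ι, objMap_ι, ← Category.assoc,
    objIncl_ι]

/-- Restriction to a smaller open. -/
def gRes {U V : P.Opens} (h : U ≤ V) : G π q K M V ⟶ G π q K M U :=
  mkHom (fun B =>
    { toFun := fun x => M.val.presheaf.map (objIncl π q h B).op x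
      map_add' := fun x y => map_add (M.val.presheaf.map (objIncl π q h B).op).hom x y
      map_smul' := fun b x => by
        refine (M.val.map_smul (objIncl π q h B).op (sectU π q K V B b) x).trans ?_
        refine congrArg₂ (· • ·) ?_ rfl
        apply ULift.ext
        change ((Scheme.ΓSpecIso (CommRingCat.of (B : Type u))).inv ≫
          ((wFst q B ⁻¹ᵁ V).ι ≫ pullback.snd q (specStr B)).appTop ≫ (objIncl π q h B).left.appTop) b =
            ((Scheme.ΓSpecIso (CommRingCat.of (B : Type u))).inv ≫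
              ((wFst q B ⁻¹ᵁ U).ι ≫ pullback.snd q (specStr B)).appTop) b
        rw [← Scheme.Hom.comp_appTop, ← Category.assoc ((objIncl π q h B).left), objIncl_ι] })
    fun B B' g x => natural_sq K M.val (objIncl π q h B) (objIncl π q h B') (objMap π q U g) (objMap π q V g)
      (objIncl_natural π q h g) x

variable [hK : GoodPre K]

include hK in
/-- Adequacy glues along finite open coverings. -/
theorem adequate_G_of_cover {ι : Type u} [Finite ι] (U : P.Opens) (V : ι → P.Opens) (hle : ∀ i, V i ≤ U)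
    (hcov : U ≤ ⨆ i, V i) (h₁ : ∀ i, adequate R (G π q K M (V i)))
    (h₂ : ∀ i j, adequate R (G π q K M (V i ⊓ V j))) : adequate R (G π q K M U) := by
  classical
  let X : ι → MVF R := fun i => G π q K M (V i)
  let Y : ι × ι → MVF R := fun ij => G π q K M (V ij.1 ⊓ V ij.2)
  let e : G π q K M U ⟶ ⨁ X := biproduct.lift fun i => gRes π q K M (hle i)
  let d : ⨁ X ⟶ ⨁ Y := biproduct.lift fun ij =>
    biproduct.π X ij.1 ≫ gRes π q K M (inf_le_left : V ij.1 ⊓ V ij.2 ≤ V ij.1) -
      biproduct.π X ij.2 ≫ gRes π q K M (inf_le_right : V ij.1 ⊓ V ij.2 ≤ V ij.2)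
  have he : ∀ B x i, appL (biproduct.π X i) B (appL e B x) = M.val.presheaf.map (objIncl π q (hle i) B).op x :=
    fun B x i => (comp_appL e _ B x).symm.trans (by rw [biproduct.lift_π]; rfl)
  have hd : ∀ B z i j, appL (biproduct.π Y (i, j)) B (appL d B z) =
      M.val.presheaf.map (objIncl π q (inf_le_left : V i ⊓ V j ≤ V i) B).op (appL (biproduct.π X i) B z) -
        M.val.presheaf.map (objIncl π q (inf_le_right : V i ⊓ V j ≤ V j) B).op (appL (biproduct.π X j) B z) :=
    fun B z i j => (comp_appL d _ B z).symm.trans (by rw [biproduct.lift_π]; rfl)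
  have hsheaf : ∀ B : Alg R, Presieve.IsSheafFor (M.val.presheaf ⋙ forget AddCommGrpCat.{u + 1})
      (Presieve.ofArrows _ (fun i => objIncl π q (hle i) B)) := fun B => by
    have hs := ((BigSite.toAbMod K T).obj M).property
    rw [Presheaf.isSheaf_iff_isSheaf_forget _ _ (forget AddCommGrpCat.{u + 1}), isSheaf_iff_isSheaf_of_type] at hs
    refine (Presieve.isSheafFor_iff_generate _).2 (hs _ (mem_J_of_opens_arrows _ fun x => ?_))
    obtain ⟨i, hi⟩ := TopologicalSpace.Opens.mem_iSup.1 (hcov x.2)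
    exact ⟨i, ⟨x.1, hi⟩, Subtype.ext (by
      change ((objIncl π q (hle i) B).left ≫ (wFst q B ⁻¹ᵁ U).ι) ⟨x.1, hi⟩ = _
      rw [objIncl_ι]
      rfl)⟩
  obtain ⟨iso, -⟩ := exists_iso_kernel e d (fun B => (injective_iff_map_eq_zero _).2 fun x hx =>
      (hsheaf B).isSeparatedFor.ext fun Z g hg => by
        obtain ⟨i⟩ := hg
        refine ((he B x i).symm.trans ((congrArg _ hx).trans (map_zero _))).trans ?_
        exact (map_zero (M.val.presheaf.map (objIncl π q (hle i) B).op).hom).symm)
    fun B z => by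
      constructor
      · intro hz
        have hcomp : Presieve.Arrows.Compatible (M.val.presheaf ⋙ forget AddCommGrpCat.{u + 1})
            (fun i => objIncl π q (hle i) B) (fun i => appL (biproduct.π X i) B z) := by
          intro i j Z gi gj w
          have w' : gi.left ≫ (wFst q B ⁻¹ᵁ V i).ι = gj.left ≫ (wFst q B ⁻¹ᵁ V j).ι := by
            rw [← objIncl_ι π q (hle i) B, ← objIncl_ι π q (hle j) B, ← Category.assoc, ← Category.assoc]
            exact congrArg (fun t => t.left ≫ (wFst q B ⁻¹ᵁ U).ι) w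
          have hr : Set.range (gi.left ≫ (wFst q B ⁻¹ᵁ V i).ι) ⊆ Set.range (wFst q B ⁻¹ᵁ (V i ⊓ V j)).ι := by
            rintro _ ⟨z', rfl⟩
            rw [Scheme.Opens.range_ι]
            refine ⟨(gi.left z').2, ?_⟩
            rw [w']
            exact (gj.left z').2
          let γ₀ := IsOpenImmersion.lift (wFst q B ⁻¹ᵁ (V i ⊓ V j)).ι (gi.left ≫ (wFst q B ⁻¹ᵁ V i).ι) hr
          have hγ : γ₀ ≫ (wFst q B ⁻¹ᵁ (V i ⊓ V j)).ι = gi.left ≫ (wFst q B ⁻¹ᵁ V i).ι :=
            IsOpenImmersion.lift_fac _ _ hr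
          let γ : Z ⟶ objU π q (V i ⊓ V j) B := Over.homMk γ₀ (by
            change γ₀ ≫ (wFst q B ⁻¹ᵁ (V i ⊓ V j)).ι ≫ wFst q B ≫ π = Z.hom
            rw [← Category.assoc, hγ, Category.assoc]
            exact Over.w gi)
          have h1 : gi = γ ≫ objIncl π q (inf_le_left : V i ⊓ V j ≤ V i) B := by
            ext : 1
            refine (cancel_mono (wFst q B ⁻¹ᵁ V i).ι).1 ?_
            rw [Over.comp_left, Category.assoc, objIncl_ι]
            exact hγ.symm
          have h2 : gj = γ ≫ objIncl π q (inf_le_right : V i ⊓ V j ≤ V j) B := by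
            ext : 1
            refine (cancel_mono (wFst q B ⁻¹ᵁ V j).ι).1 ?_
            rw [Over.comp_left, Category.assoc, objIncl_ι]
            exact w'.symm.trans hγ.symm
          rw [h1, h2, op_comp, op_comp, Functor.map_comp, Functor.map_comp]
          exact congrArg _ (sub_eq_zero.1 ((hd B z i j).symm.trans ((congrArg _ hz).trans (map_zero _))))
        obtain ⟨x, hx, -⟩ := (Presieve.isSheafFor_arrows_iff _ _).1 (hsheaf B) _ hcomp
        exact ⟨x, biproduct_ext X B _ _ fun i => (he B x i).trans (hx i)⟩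
      · rintro ⟨x, rfl⟩
        refine biproduct_ext Y B _ _ fun ij => ?_
        obtain ⟨i, j⟩ := ij
        refine (hd B _ i j).trans ?_
        rw [he, he, map_zero]
        refine sub_eq_zero.2 ?_
        refine ((ConcreteCategory.congr_hom (M.val.presheaf.map_comp _ _) x).symm.trans ?_).trans
          (ConcreteCategory.congr_hom (M.val.presheaf.map_comp _ _) x)
        refine congrArg (fun t => M.val.presheaf.map t x) ?_
        change (objIncl π q (inf_le_left : V i ⊓ V j ≤ V i) B ≫ objIncl π q (hle i) B).op =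
          (objIncl π q (inf_le_right : V i ⊓ V j ≤ V j) B ≫ objIncl π q (hle j) B).op
        refine congrArg Quiver.Hom.op ?_
        ext : 1
        refine (cancel_mono (wFst q B ⁻¹ᵁ U).ι).1 ?_
        rw [Over.comp_left, Over.comp_left, Category.assoc, Category.assoc, objIncl_ι, objIncl_ι, objIncl_ι, objIncl_ι]
  exact (adequate R).prop_of_iso iso.symm
    (adequate_kernel d (adequate_biproduct X h₁) (adequate_biproduct Y fun ij => h₂ ij.1 ij.2))

end

end GrothLib.AdeqMod20
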