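import Groth.Agent.Lib.AdeqMod20.Extension
import Groth.Agent.Lib.Adeq20.Amitsur
import Groth.Agent.Lib.AdeqMod20.Sections
import Mathlib.CategoryTheory.Sites.SheafCohomology.Cech
import Mathlib.CategoryTheory.Limits.Shapes.ConcreteCategory
import Mathlib.Algebra.Category.Grp.Limits
import Mathlib.Algebra.Homology.ShortComplex.Ab
import Mathlib.Algebra.Homology.ShortComplex.HomologicalComplex

/-!
# The Čech complex of an adequate module for a faithfully flat map of affine schemes
-/

set_option autoImplicit false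
set_option linter.style.haveILetI false
set_option linter.unusedSectionVars false

universe u

open CategoryTheory CategoryTheory.Limits Opposite AlgebraicGeometry

noncomputable section

namespace GrothLib.AdeqMod20

open Adeq GrothLib.Adeq20

variable {R : CommRingCat.{u}}

/-- An affine scheme over `Spec R`. -/
abbrev aff (C : Alg R) : Over (Spec R) := Over.mk (specStr C)

/-- A map of affine schemes over `Spec R`. -/
def affHom {C C' : Alg R} (g : C ⟶ C') : aff C' ⟶ aff C :=
  Over.homMk (Spec.map (CommRingCat.ofHom g.hom.toRingHom)) (specStr_comp g)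

theorem affHom_comp {C C' C'' : Alg R} (g : C ⟶ C') (g' : C' ⟶ C'') : affHom (g ≫ g') = affHom g' ≫ affHom g := by
  ext : 1
  exact Spec.map_comp (CommRingCat.ofHom g.hom.toRingHom) (CommRingCat.ofHom g'.hom.toRingHom)

variable (B : Alg R)

theorem tpow_lift : ∀ (n : ℕ) (Z : Over (Spec R)) (s : Fin (n + 1) → (Z ⟶ aff B)),
    ∃! m : Z ⟶ aff (tpow B n), ∀ k, m ≫ affHom (prT B n k) = s k := by
  intro n
  induction n with
  | zero =>
    intro Z s
    have h1 : affHom (prT B 0 (0 : Fin 1)) = 𝟙 (aff B) := by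
      ext : 1
      exact Spec.map_id _
    refine ⟨s 0, fun k => ?_, fun m hm => ?_⟩
    · fin_cases k
      exact (congrArg (s 0 ≫ ·) h1).trans (Category.comp_id _)
    · exact ((congrArg (m ≫ ·) h1).trans (Category.comp_id _)).symm.trans (hm 0)
  | succ n ih =>
    intro Z s
    obtain ⟨m', hm', huniq⟩ := ih Z fun j => s j.succ
    have hpb := ov_isPullback (str B) (str (tpow B n))
    have hstr : ∀ C : Alg R, specAlg (str C) = specStr C := fun C => rfl
    have w : (s 0).left ≫ specAlg (str B) = m'.left ≫ specAlg (str (tpow B n)) :=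
      ((congrArg ((s 0).left ≫ ·) (hstr B)).trans (Over.w (s 0))).trans
        ((congrArg (m'.left ≫ ·) (hstr (tpow B n))).trans (Over.w m')).symm
    let L := hpb.lift (s 0).left m'.left w
    have hL1 : L ≫ specAlg (ovL (str B) (str (tpow B n))) = (s 0).left := hpb.lift_fst _ _ _
    have hL2 : L ≫ specAlg (ovR (str B) (str (tpow B n))) = m'.left := hpb.lift_snd _ _ _
    let m : Z ⟶ aff (tpow B (n + 1)) := Over.homMk L (by
      refine Eq.trans ?_ (Over.w (s 0))
      rw [← hL1, Category.assoc]
      exact congrArg (L ≫ ·) (specStr_comp (ovL (str B) (str (tpow B n)))).symm)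
    have hsucc : ∀ j : Fin (n + 1), affHom (prT B (n + 1) j.succ) =
        affHom (ovR (str B) (str (tpow B n))) ≫ affHom (prT B n j) := fun j => by
      rw [prT_succ]
      exact affHom_comp _ _
    have hmR : m ≫ affHom (ovR (str B) (str (tpow B n))) = m' := by
      ext : 1
      exact hL2
    refine ⟨m, fun k => ?_, fun q hq => ?_⟩
    · induction k using Fin.cases with
      | zero =>
        ext : 1
        exact hL1
      | succ j => exact (congrArg (m ≫ ·) (hsucc j)).trans ((Category.assoc _ _ _).symm.trans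
          ((congrArg (· ≫ affHom (prT B n j)) hmR).trans (hm' j)))
    · ext : 1
      refine hpb.hom_ext ((congrArg CommaMorphism.left (hq 0)).trans hL1.symm) ?_
      refine (congrArg CommaMorphism.left (huniq (q ≫ affHom (ovR (str B) (str (tpow B n)))) fun j => ?_)).trans hL2.symm
      exact (Category.assoc _ _ _).trans ((congrArg (q ≫ ·) (hsucc j).symm).trans (hq j.succ))

/-- The tensor power as a product. -/
def tpowLimit (n : ℕ) : IsLimit (Fan.mk (aff (tpow B n)) (fun k : Fin (n + 1) => affHom (prT B n k))) :=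
  Fan.IsLimit.mk _ (fun c => (tpow_lift B n c.pt c.proj).choose)
    (fun c k => (tpow_lift B n c.pt c.proj).choose_spec.1 k)
    (fun c m hm => (tpow_lift B n c.pt c.proj).choose_spec.2 m hm)

/-- The comparison with the chosen product. -/
def tpowProd (n : ℕ) : aff (tpow B n) ≅ ∏ᶜ fun _ : Fin (n + 1) => aff B :=
  (tpowLimit B n).conePointUniqueUpToIso (limit.isLimit _)

theorem tpowProd_π (n : ℕ) (k : Fin (n + 1)) :
    (tpowProd B n).hom ≫ Pi.π (fun _ : Fin (n + 1) => aff B) k = affHom (prT B n k) :=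
  IsLimit.conePointUniqueUpToIso_hom_comp (tpowLimit B n) (limit.isLimit _) ⟨k⟩

theorem tpowProd_face (n : ℕ) (k : Fin (n + 2)) :
    (tpowProd B (n + 1)).hom ≫ Pi.lift (fun l => Pi.π (fun _ : Fin (n + 2) => aff B) (k.succAbove l)) =
      affHom (faceT B n k) ≫ (tpowProd B n).hom :=
  Pi.hom_ext _ _ fun l => by
    rw [Category.assoc, Pi.lift_π, tpowProd_π, Category.assoc, tpowProd_π, ← affHom_comp, prT_faceT]

section Complex

variable (G : (Over (Spec R))ᵒᵖ ⥤ AddCommGrpCat.{u + 1})

/-- The Čech complex of the covering by `B`. -/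
abbrev cechCx : CochainComplex AddCommGrpCat.{u + 1} ℕ :=
  (cechComplexFunctor (A := AddCommGrpCat.{u + 1}) (fun _ : PUnit.{u + 2} => aff B)).obj G

/-- The unique coordinate of a cochain. -/
def cEv (n : ℕ) : (cechCx B G).X n ⟶ G.obj (op (∏ᶜ fun _ : Fin (n + 1) => aff B)) :=
  Pi.π (fun _ : Fin (n + 1) → PUnit.{u + 2} => G.obj (op (∏ᶜ fun _ : Fin (n + 1) => aff B))) fun _ => PUnit.unit

theorem cEv_bijective (n : ℕ) : Function.Bijective (cEv B G n) := by
  have h : ∀ (a : Fin (n + 1) → PUnit.{u + 2}) (x : (cechCx B G).X n),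
      (Concrete.productEquiv fun _ : Fin (n + 1) → PUnit.{u + 2} => G.obj (op (∏ᶜ fun _ : Fin (n + 1) => aff B))) x a =
        cEv B G n x := fun a x => by
    refine (Concrete.productEquiv_apply_apply _ _ _).trans ?_
    rw [Subsingleton.elim a fun _ => PUnit.unit]
    rfl
  refine ⟨fun x y hxy => (Concrete.productEquiv fun _ : Fin (n + 1) → PUnit.{u + 2} =>
    G.obj (op (∏ᶜ fun _ : Fin (n + 1) => aff B))).injective (funext fun a => (h a x).trans (hxy.trans (h a y).symm)),
    fun y => ⟨(Concrete.productEquiv fun _ : Fin (n + 1) → PUnit.{u + 2} =>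
      G.obj (op (∏ᶜ fun _ : Fin (n + 1) => aff B))).symm fun _ => y, ?_⟩⟩
  exact (h (fun _ => PUnit.unit) _).symm.trans (congrFun (Equiv.apply_symm_apply _ _) _)

theorem cEv_d (n : ℕ) :
    (cechCx B G).d n (n + 1) ≫ cEv B G (n + 1) =
      ∑ k : Fin (n + 2), (-1 : ℤ) ^ (k : ℕ) •
        (cEv B G n ≫ G.map (Pi.lift fun l => Pi.π (fun _ : Fin (n + 2) => aff B) (k.succAbove l)).op) := by
  have hd : (cechCx B G).d n (n + 1) = AlgebraicTopology.AlternatingCofaceMapComplex.objD
      (((FormalCoproduct.cosimplicialObjectFunctor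
        (FormalCoproduct.mk PUnit.{u + 2} (fun _ => aff B)).cech).obj G)) n := by
    exact dif_pos rfl |>.trans (Category.comp_id _)
  rw [hd, AlgebraicTopology.AlternatingCofaceMapComplex.objD]
  refine (Preadditive.sum_comp _ _ _).trans (Finset.sum_congr rfl fun k _ => ?_)
  refine (Preadditive.zsmul_comp _ _ _).trans ?_
  congr 1
  exact Pi.lift_π _ _

/-- The coordinate on the tensor power. -/
def cCoord (n : ℕ) : (cechCx B G).X n ⟶ G.obj (op (aff (tpow B n))) := cEv B G n ≫ G.map (tpowProd B n).hom.op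

theorem cCoord_bijective (n : ℕ) : Function.Bijective (cCoord B G n) :=
  (((ConcreteCategory.isIso_iff_bijective (G.map (tpowProd B n).hom.op)).1 inferInstance).comp (cEv_bijective B G n) :)

theorem cCoord_d (n : ℕ) :
    (cechCx B G).d n (n + 1) ≫ cCoord B G (n + 1) =
      ∑ k : Fin (n + 2), (-1 : ℤ) ^ (k : ℕ) • (cCoord B G n ≫ G.map (affHom (faceT B n k)).op) := by
  rw [cCoord, ← Category.assoc, cEv_d, Preadditive.sum_comp]
  refine Finset.sum_congr rfl fun k _ => ?_
  rw [Preadditive.zsmul_comp, Category.assoc, cCoord, Category.assoc, ← Functor.map_comp, ← Functor.map_comp, ← op_comp,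
    ← op_comp, tpowProd_face]

end Complex

section Main

variable {K : Precoverage Scheme.{u}} [BigSite.OSh K] [hK : GoodPre K] {S : Scheme.{u}} (a : Spec R ⟶ S)
  (M : BigSite.Mod K S)

include hK in
theorem cech_exactAt (hM : adequateMod K S M) [Module.FaithfullyFlat R (B : Type u)] (n : ℕ) :
    (cechCx B ((Over.map a).op ⋙ ((BigSite.toAbMod K S).obj M).obj)).ExactAt (n + 1) := by
  let G := (Over.map a).op ⋙ ((BigSite.toAbMod K S).obj M).obj
  have hface : ∀ (m : ℕ) (k : Fin (m + 2)) (x : G.obj (op (aff (tpow B m)))),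
      G.map (affHom (faceT B m k)).op x = mapA (F K a M) (faceT B m k) x := fun m k x => rfl
  have hd : ∀ (m : ℕ) (x : (cechCx B G).X m),
      cCoord B G (m + 1) ((cechCx B G).d m (m + 1) x) = amD B (F K a M) m (cCoord B G m x) := fun m x => by
    let e : (((cechCx B G).X m) ⟶ G.obj (op (aff (tpow B (m + 1))))) →+ G.obj (op (aff (tpow B (m + 1)))) :=
      AddMonoidHom.mk' (fun φ => φ x) fun _ _ => rfl
    refine (congrArg e (cCoord_d B G m)).trans (Eq.trans ?_ (amD_apply B (F K a M) m _).symm)
    exact (map_sum e _ _).trans (Finset.sum_congr rfl fun k _ =>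
      (map_zsmul e _ _).trans (congrArg (((-1 : ℤ) ^ (k : ℕ)) • ·) (hface m k (cCoord B G m x))))
  rw [HomologicalComplex.exactAt_iff' _ n (n + 1) (n + 2) (by simp) (by simp), ShortComplex.ab_exact_iff]
  intro x hx
  have h0 : amD B (F K a M) (n + 1) (cCoord B G (n + 1) x) = 0 :=
    (hd (n + 1) x).symm.trans ((congrArg (cCoord B G (n + 2)) hx).trans (map_zero (cCoord B G (n + 2)).hom))
  obtain ⟨y, hy⟩ := amitsur_exact B (F K a M) (adequate_of_adequateMod a M hM) n _ h0
  obtain ⟨z, rfl⟩ := (cCoord_bijective B G n).2 y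
  exact ⟨z, (cCoord_bijective B G (n + 1)).1 ((hd n z).trans hy)⟩

end Main

end GrothLib.AdeqMod20
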