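import Groth.Agent.Lib.AdeqMod20.Sheafify
import Groth.Agent.Lib.Adeq20.Closure
import Mathlib.Algebra.Category.ModuleCat.Presheaf.Colimits
import Mathlib.Algebra.Category.ModuleCat.Sheaf.Colimits

/-!
# Kernels, cokernels and colimits of adequate modules
-/

set_option autoImplicit false
set_option linter.style.haveILetI false
set_option linter.unusedSectionVars false

universe u

open CategoryTheory CategoryTheory.Limits Opposite AlgebraicGeometry

noncomputable section

namespace GrothLib.AdeqMod20

open Adeq GrothLib.Adeq20

variable {K : Precoverage Scheme.{u}} [BigSite.OSh K] [GoodPre K] {S : Scheme.{u}}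

theorem adequateMod_kernel {M N : BigSite.Mod K S} (φ : M ⟶ N) (hM : adequateMod K S M) (hN : adequateMod K S N) :
    adequateMod K S (kernel φ) := by
  refine adequateMod_of_forall _ fun R a => ?_
  let G := fun U : Over S => SheafOfModules.forget (BigSite.ORing K S) ⋙ PresheafOfModules.evaluation (BigSite.ORing K S).obj (op U)
  have hG : ∀ U : Over S, Function.Injective ((G U).map (kernel.ι φ)) ∧
      ∀ x, (G U).map φ x = 0 ↔ ∃ y, (G U).map (kernel.ι φ) y = x := fun U => by
    haveI : Mono ((G U).map (kernel.ι φ)) := inferInstance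
    have hex : ((ShortComplex.mk (kernel.ι φ) φ (kernel.condition φ)).map (G U)).Exact :=
      (ShortComplex.exact_of_f_is_kernel _ (kernelIsKernel φ)).map_of_mono_of_preservesKernel (G U)
        (inferInstanceAs (Mono (kernel.ι φ))) inferInstance
    refine ⟨(ModuleCat.mono_iff_injective _).1 inferInstance, fun x => ⟨fun hx => ?_, ?_⟩⟩
    · exact (ShortComplex.moduleCat_exact_iff _).1 hex x hx
    · rintro ⟨y, rfl⟩
      exact ConcreteCategory.congr_hom ((ShortComplex.mk (kernel.ι φ) φ (kernel.condition φ)).map (G U)).zero y
  obtain ⟨e, -⟩ := exists_iso_kernel ((toMVF K a).map (kernel.ι φ)) ((toMVF K a).map φ)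
    (fun B => (hG ((specOver a).obj (op B))).1) (fun B x => (hG ((specOver a).obj (op B))).2 x)
  exact (adequate R).prop_of_iso e.symm
    (adequate_kernel _ (adequate_of_adequateMod a M hM) (adequate_of_adequateMod a N hN))

section Preserves

variable {R : CommRingCat.{u}} (a : Spec R ⟶ S) (J : Type*) [Category J]
  [HasColimitsOfShape J AddCommGrpCat.{u + 1}]

instance : PreservesColimitsOfShape J (toMVFPre K a) :=
  haveI : PreservesColimitsOfShape J (toMVFPre K a ⋙ PresheafOfModules.toPresheaf _) :=
    inferInstanceAs (PreservesColimitsOfShape J (PresheafOfModules.toPresheaf (BigSite.ORing K S).obj ⋙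
      (Functor.whiskeringLeft _ _ Ab.{u + 1}).obj (specOver a).op))
  haveI : ReflectsColimitsOfShape J (PresheafOfModules.toPresheaf.{u + 1} (ringOf R)) :=
    reflectsColimitsOfShape_of_reflectsIsomorphisms
  preservesColimitsOfShape_of_reflects_of_preserves (toMVFPre K a) (PresheafOfModules.toPresheaf _)

end Preserves

theorem adequateMod_cokernel {M N : BigSite.Mod K S} (φ : M ⟶ N) (hM : adequateMod K S M)
    (hN : adequateMod K S N) : adequateMod K S (cokernel φ) := by
  let α := 𝟙 (BigSite.ORing K S).obj
  let adj := PresheafOfModules.sheafificationAdjunction.{u + 1} α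
  let G := SheafOfModules.forget.{u + 1} (BigSite.ORing K S) ⋙ PresheafOfModules.restrictScalars α
  let e : shf (cokernel (G.map φ)) ≅ cokernel φ :=
    PreservesCokernel.iso (PresheafOfModules.sheafification α) (G.map φ) ≪≫
      cokernel.mapIso _ φ (asIso (adj.counit.app M)) (asIso (adj.counit.app N)) (adj.counit.naturality φ)
  refine (adequateMod K S).prop_of_iso e (adequateMod_shf _ fun R a => ?_)
  exact (adequate R).prop_of_iso (PreservesCokernel.iso (toMVFPre K a) (G.map φ)).symm
    (adequate_cokernel _ (adequate_of_adequateMod a M hM) (adequate_of_adequateMod a N hN))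

theorem adequateMod_colimit {J : Type (u + 1)} [SmallCategory J] (D : J ⥤ BigSite.Mod K S)
    (hD : ∀ j, adequateMod K S (D.obj j)) : adequateMod K S (colimit D) := by
  let α := 𝟙 (BigSite.ORing K S).obj
  let adj := PresheafOfModules.sheafificationAdjunction.{u + 1} α
  let G := SheafOfModules.forget.{u + 1} (BigSite.ORing K S) ⋙ PresheafOfModules.restrictScalars α
  let e : shf (colimit (D ⋙ G)) ≅ colimit D :=
    preservesColimitIso (PresheafOfModules.sheafification α) (D ⋙ G) ≪≫
      HasColimit.isoOfNatIso (Functor.isoWhiskerLeft D (asIso adj.counit))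
  refine (adequateMod K S).prop_of_iso e (adequateMod_shf _ fun R a => ?_)
  exact (adequate R).prop_of_iso (preservesColimitIso (toMVFPre K a) (D ⋙ G)).symm
    (adequate_colimit _ fun j => adequate_of_adequateMod a (D.obj j) (hD j))

end GrothLib.AdeqMod20
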