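import Groth.Agent.Lib.AdeqMod20.Resol
import Groth.Agent.Lib.AdeqMod20.Limits
import Mathlib.Algebra.Category.ModuleCat.Presheaf.Limits
import Mathlib.Algebra.Homology.ShortComplex.PreservesHomology
import Mathlib.CategoryTheory.Abelian.RightDerived

/-!
# Higher direct images of adequate modules
-/

set_option autoImplicit false
set_option linter.style.haveILetI false
set_option linter.unusedSectionVars false

universe u

open CategoryTheory CategoryTheory.Limits Opposite AlgebraicGeometry

noncomputable section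

namespace GrothLib.AdeqMod20

open Adeq GrothLib.Adeq20

local notation "fppf" => Scheme.fppfPrecoverage

section PreservesLimits

variable {K : Precoverage Scheme.{u}} [BigSite.OSh K] {S : Scheme.{u}} {R : CommRingCat.{u}} (a : Spec R ⟶ S)

instance (J : Type) [SmallCategory J] [FinCategory J] : PreservesLimitsOfShape J (toMVFPre K a) :=
  haveI : PreservesLimitsOfShape J (toMVFPre K a ⋙ PresheafOfModules.toPresheaf _) :=
    inferInstanceAs (PreservesLimitsOfShape J (PresheafOfModules.toPresheaf (BigSite.ORing K S).obj ⋙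
      (Functor.whiskeringLeft _ _ Ab.{u + 1}).obj (specOver a).op))
  haveI : ReflectsLimitsOfShape J (PresheafOfModules.toPresheaf.{u + 1} (ringOf R)) :=
    reflectsLimitsOfShape_of_reflectsIsomorphisms
  preservesLimitsOfShape_of_reflects_of_preserves (toMVFPre K a) (PresheafOfModules.toPresheaf _)

instance : PreservesFiniteLimits (toMVFPre K a) where
  preservesFiniteLimits _ _ _ := inferInstance

instance [GoodPre K] : PreservesFiniteColimits (toMVFPre K a) where
  preservesFiniteColimits _ _ _ := inferInstance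

end PreservesLimits

variable {S T : Scheme.{u}} (f : T ⟶ S) {R : CommRingCat.{u}} (a : Spec R ⟶ S)

theorem pushSecIso : Nonempty (BigSite.pushMod fppf f ⋙ toMVF fppf a ≅
    GF (pullback.fst f a) (pullback.snd f a) fppf ⊤) := by
  let P₀ := pullback f a
  let π₀ : P₀ ⟶ T := pullback.fst f a
  let q₀ : P₀ ⟶ Spec R := pullback.snd f a
  let χ : ∀ B : Alg R, W q₀ B ⟶ pullback (specStr B ≫ a) f := fun B =>
    pullback.lift (pullback.snd q₀ (specStr B)) (wFst q₀ B ≫ π₀) (by
      rw [← Category.assoc, ← pullback.condition, Category.assoc, Category.assoc, pullback.condition])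
  have hsq : ∀ B : Alg R, IsPullback (pullback.snd q₀ (specStr B)) (wFst q₀ B ≫ π₀) (specStr B ≫ a) f := fun B =>
    (IsPullback.of_hasPullback q₀ (specStr B)).flip.paste_vert (IsPullback.of_hasPullback f a).flip
  have hiso : ∀ B, IsIso (χ B) := fun B => by
    have h : χ B = (hsq B).isoPullback.hom := by
      apply pullback.hom_ext
      · exact (pullback.lift_fst _ _ _).trans (hsq B).isoPullback_hom_fst.symm
      · exact (pullback.lift_snd _ _ _).trans (hsq B).isoPullback_hom_snd.symm
    rw [h]
    infer_instance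
  let ν : ∀ B : Alg R, objU π₀ q₀ ⊤ B ⟶ (Over.pullback f).obj ((specOver a).obj (op B)) := fun B =>
    Over.homMk (U := Over.mk ((wFst q₀ B ⁻¹ᵁ ⊤).ι ≫ wFst q₀ B ≫ π₀)) (V := Over.mk (pullback.snd (specStr B ≫ a) f))
      ((wFst q₀ B ⁻¹ᵁ ⊤).ι ≫ χ B) (by
        change ((wFst q₀ B ⁻¹ᵁ ⊤).ι ≫ χ B) ≫ pullback.snd (specStr B ≫ a) f = _
        rw [Category.assoc, pullback.lift_snd]
        rfl)
  have hν : ∀ B, IsIso (ν B) := fun B => by
    haveI : IsIso (ν B).left := by
      haveI := hiso B
      haveI : IsIso (wFst q₀ B ⁻¹ᵁ (⊤ : P₀.Opens)).ι := inferInstanceAs (IsIso (W q₀ B).topIso.hom)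
      exact inferInstanceAs (IsIso ((wFst q₀ B ⁻¹ᵁ ⊤).ι ≫ χ B))
    haveI : IsIso ((Over.forget T).map (ν B)) := this
    exact isIso_of_reflects_iso (ν B) (Over.forget T)
  let hh : ∀ M : BigSite.Mod fppf T, F fppf a ((BigSite.pushMod fppf f).obj M) ⟶ G π₀ q₀ fppf M ⊤ := fun M =>
    mkHom (fun B =>
      { toFun := fun x => M.val.presheaf.map (ν B).op x
        map_add' := fun x y => map_add (M.val.presheaf.map (ν B).op).hom x y
        map_smul' := fun b x => by
          refine (M.val.map_smul (ν B).op _ x).trans ?_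
          refine congrArg₂ (· • ·) ?_ rfl
          apply ULift.ext
          change ((Scheme.ΓSpecIso (CommRingCat.of (B : Type u))).inv ≫
              (pullback.fst (specStr B ≫ a) f).appTop ≫ ((wFst q₀ B ⁻¹ᵁ ⊤).ι ≫ χ B).appTop) b =
            ((Scheme.ΓSpecIso (CommRingCat.of (B : Type u))).inv ≫
              ((wFst q₀ B ⁻¹ᵁ ⊤).ι ≫ pullback.snd q₀ (specStr B)).appTop) b
          rw [← Scheme.Hom.comp_appTop, Category.assoc, pullback.lift_fst] })
      fun B B' g x => natural_sq fppf M.val (ν B) (ν B') (objMap π₀ q₀ ⊤ g) ((Over.pullback f).map ((specOver a).map g.op)) (by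
        ext : 1
        change ((wFst q₀ B' ⁻¹ᵁ ⊤).ι ≫ χ B') ≫ pullback.lift
            (pullback.fst (specStr B' ≫ a) f ≫ Spec.map (CommRingCat.ofHom g.hom.toRingHom))
            (pullback.snd (specStr B' ≫ a) f)
            (by rw [Category.assoc, ← Category.assoc (Spec.map _), specStr_comp, pullback.condition]) =
          (objMap π₀ q₀ ⊤ g).left ≫ (wFst q₀ B ⁻¹ᵁ ⊤).ι ≫ χ B
        rw [← Category.assoc (objMap π₀ q₀ ⊤ g).left, objMap_ι]
        apply pullback.hom_ext
        · simp only [Category.assoc, pullback.lift_fst, pullback.lift_fst_assoc, wMap_snd, χ]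
        · simp only [Category.assoc, pullback.lift_snd, χ]
          rw [← Category.assoc (wMap q₀ g), wMap_fst]) x
  have hb : ∀ M B, Function.Bijective (appL (hh M) B) := fun M B =>
    haveI := hν B
    bijective_map M (ν B)
  have hi : ∀ M, IsIso (hh M) := fun M => by
    haveI : Mono (hh M) := mono_of_injective' (hh M) fun B => (hb M B).1
    haveI : Epi (hh M) := epi_of_surjective' (hh M) fun B => (hb M B).2
    exact isIso_of_mono_of_epi (hh M)
  exact ⟨NatIso.ofComponents (fun M => @asIso _ _ _ _ (hh M) (hi M)) fun {M N} φ => hom_ext' fun B x =>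
    (PresheafOfModules.naturality_apply φ.val (ν B).op x).symm⟩

set_option maxHeartbeats 800000 in
theorem exists_rpush_eq_shf [HasInjectiveResolutions (BigSite.Mod fppf T)] (M : BigSite.Mod fppf T) (i : ℕ) :
    ∃ H : PresheafOfModules.{u + 1} (BigSite.ORing fppf S).obj,
      Nonempty ((BigSite.RpushMod fppf f i).obj M ≅ shf H) ∧
      ∀ (R : CommRingCat.{u}) (a : Spec R ⟶ S) (p : Prop) [QuasiCompact f] [QuasiSeparated f],
        adequateMod fppf T M → (p → parasitic fppf T M ∧ Flat (pullback.fst f a)) →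
          InCl p ((toMVFPre fppf a).obj H) := by
  let I : InjectiveResolution M := (HasInjectiveResolution.out (Z := M)).some
  let α := 𝟙 (BigSite.ORing fppf S).obj
  let adj := PresheafOfModules.sheafificationAdjunction.{u + 1} α
  let Γ₀ := SheafOfModules.forget.{u + 1} (BigSite.ORing fppf S) ⋙ PresheafOfModules.restrictScalars α
  let Sh := PresheafOfModules.sheafification.{u + 1} α
  let C := ((BigSite.pushMod fppf f).mapHomologicalComplex (ComplexShape.up ℕ)).obj I.cocomplex
  let C₀ := (Γ₀.mapHomologicalComplex (ComplexShape.up ℕ)).obj C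
  haveI : PreservesBinaryBiproducts Sh :=
    haveI : Sh.IsLeftAdjoint := adj.isLeftAdjoint
    preservesBinaryBiproducts_of_preservesBinaryCoproducts Sh
  haveI : Sh.Additive := Functor.additive_of_preservesBinaryBiproducts Sh
  let e₀ : (Sh.mapHomologicalComplex _).obj C₀ ≅ C :=
    HomologicalComplex.Hom.isoOfComponents (fun n => (asIso adj.counit).app (C.X n))
      fun n m _ => (adj.counit.naturality (C.d n m)).symm
  haveI : Sh.PreservesHomology := inferInstance
  let e : (BigSite.RpushMod fppf f i).obj M ≅ shf (C₀.homology i) :=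
    I.isoRightDerivedObj _ i ≪≫ (HomologicalComplex.homologyFunctor _ _ i).mapIso e₀.symm ≪≫
      (C₀.sc i).mapHomologyIso Sh
  refine ⟨C₀.homology i, ⟨e⟩, fun R a p _ _ hM hp => ?_⟩
  obtain ⟨σ⟩ := pushSecIso f a
  haveI : (toMVFPre fppf a).PreservesHomology := inferInstance
  haveI : CompactSpace (pullback f a : Scheme.{u}) := QuasiCompact.compactSpace_of_compactSpace (pullback.snd f a)
  haveI : QuasiSeparatedSpace (pullback f a : Scheme.{u}) :=
    quasiSeparatedSpace_of_quasiSeparated (pullback.snd f a)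
  let e₁ : ((toMVFPre fppf a).mapHomologicalComplex _).obj C₀ ≅ Cx I (pullback.fst f a) (pullback.snd f a) ⊤ :=
    HomologicalComplex.Hom.isoOfComponents (fun n => σ.app (I.cocomplex.X n))
      fun n m _ => (σ.hom.naturality (I.cocomplex.d n m)).symm
  exact ((inCl_compact I (pullback.fst f a) (pullback.snd f a) hM hp ⊤ isCompact_univ i).of_iso
    ((HomologicalComplex.homologyFunctor _ _ i).mapIso e₁.symm ≪≫ (C₀.sc i).mapHomologyIso (toMVFPre fppf a)))

variable [QuasiCompact f] [QuasiSeparated f] [HasInjectiveResolutions (BigSite.Mod fppf T)] (M : BigSite.Mod fppf T)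

theorem adequateMod_rpush (hM : adequateMod fppf T M) (i : ℕ) :
    adequateMod fppf S ((BigSite.RpushMod fppf f i).obj M) := by
  obtain ⟨H, ⟨e⟩, hH⟩ := exists_rpush_eq_shf f M i
  exact (adequateMod fppf S).prop_of_iso e.symm
    (adequateMod_shf H fun R a => (hH R a False hM False.elim).1)

theorem parasitic_rpush (hM : adequateMod fppf T M) (hP : parasitic fppf T M) (i : ℕ) :
    parasitic fppf S ((BigSite.RpushMod fppf f i).obj M) := by
  classical
  obtain ⟨H, ⟨e⟩, hH⟩ := exists_rpush_eq_shf f M i
  refine (parasitic fppf S).prop_of_iso e.symm ?_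
  choose W hW hx _ using fun x : S => exists_isAffineOpen_mem_and_subset (x := x) (U := ⊤) trivial
  have hadq : adequateMod fppf S (shf H) :=
    adequateMod_shf H fun R a => (hH R a False hM False.elim).1
  refine parasitic_of_affine_cover (shf H) hadq W hW (eq_top_iff.2 fun x _ => TopologicalSpace.Opens.mem_iSup.2 ⟨x, hx x⟩)
    fun x => ?_
  let a : Spec Γ(S, W x) ⟶ S := (hW x).fromSpec
  haveI : IsOpenImmersion (pullback.fst f a) := inferInstance
  obtain ⟨h₁, h₂⟩ := hH _ a True hM fun _ => ⟨hP, inferInstance⟩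
  obtain ⟨e'⟩ := shfIso H a h₁
  haveI := h₂ trivial
  have h3 : Subsingleton (((toMVF fppf a).obj (shf H)).obj (pt (algOf Γ(S, W x) Γ(S, W x)))) :=
    (surjective_appL e'.hom (algOf Γ(S, W x) Γ(S, W x))).subsingleton
  exact subsingleton_of_iso (shf H) (Over.isoMk (f := (BigSite.zarIncl S).obj (W x))
    (g := (specOver a).obj (op (algOf Γ(S, W x) Γ(S, W x)))) (hW x).isoSpec (by
      change (hW x).isoSpec.hom ≫ Spec.map (CommRingCat.ofHom (algebraMap Γ(S, W x) Γ(S, W x))) ≫ a = (W x).ι
      rw [show CommRingCat.ofHom (algebraMap Γ(S, W x) Γ(S, W x)) = 𝟙 _ from rfl, Spec.map_id]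
      erw [Category.id_comp]
      exact IsAffineOpen.isoSpec_hom_fromSpec _)).symm h3

end GrothLib.AdeqMod20
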