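import Groth.Agent.Lib.AdeqMod20.Parasitic
import Groth.Agent.Lib.Adeq20.Cocycle
import Groth.Agent.Lib.Adeq20.Ext

/-!
# Extensions of adequate modules
-/

set_option autoImplicit false
set_option linter.style.haveILetI false
set_option linter.unusedSectionVars false

universe u

open CategoryTheory CategoryTheory.Limits Opposite AlgebraicGeometry TensorProduct

noncomputable section

namespace GrothLib.AdeqMod20

open Adeq GrothLib.Adeq20

variable {K : Precoverage Scheme.{u}} [BigSite.OSh K] [hK : GoodPre K] {S : Scheme.{u}}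

omit hK in
theorem ov_isPullback {R : CommRingCat.{u}} {B P Q : Alg R} (g : B ⟶ P) (h : B ⟶ Q) :
    IsPullback (specAlg (ovL g h)) (specAlg (ovR g h)) (specAlg g) (specAlg h) := by
  letI := g.hom.toRingHom.toAlgebra
  letI := h.hom.toRingHom.toAlgebra
  exact isPullback_SpecMap_of_isPushout _ _ _ _
    (CommRingCat.isPushout_tensorProduct (B : Type u) (P : Type u) (Q : Type u))

include hK in
theorem adequateMod_ext (C : ShortComplex (BigSite.Mod K S)) (hC : C.ShortExact) (h₁ : adequateMod K S C.X₁)
    (h₃ : adequateMod K S C.X₃) : adequateMod K S C.X₂ := by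
  refine adequateMod_of_forall _ fun R a => ?_
  haveI := hC.mono_f
  haveI := hC.epi_g
  let i := (toMVF K a).map C.f
  let p := (toMVF K a).map C.g
  have hG : ∀ U : Over S, Function.Injective (C.f.val.app (op U)) ∧
      ∀ x, C.g.val.app (op U) x = 0 ↔ ∃ y, C.f.val.app (op U) y = x := fun U => by
    let G := SheafOfModules.forget (BigSite.ORing K S) ⋙ PresheafOfModules.evaluation (BigSite.ORing K S).obj (op U)
    haveI : Mono (G.map C.f) := inferInstance
    haveI : PreservesLimit (parallelPair C.g 0) G := inferInstance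
    have hex : (C.map G).Exact := hC.exact.map_of_mono_of_preservesKernel G hC.mono_f inferInstance
    refine ⟨(ModuleCat.mono_iff_injective _).1 (inferInstanceAs (Mono (G.map C.f))), fun x => ⟨fun hx => ?_, ?_⟩⟩
    · exact (ShortComplex.moduleCat_exact_iff _).1 hex x hx
    · rintro ⟨y, rfl⟩
      exact ConcreteCategory.congr_hom (C.map G).zero y
  have hinj : ∀ B, Function.Injective (appL i B) := fun B => (hG ((specOver a).obj (op B))).1
  have hmid : ∀ B x, appL p B x = 0 ↔ ∃ y, appL i B y = x := fun B x => (hG ((specOver a).obj (op B))).2 x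
  have hF₁ := adequate_of_adequateMod a C.X₁ h₁
  have hsur : ∀ B, Function.Surjective (appL p B) := fun B z => by
    let C' : ShortComplex (BigSite.Mod K S) := ShortComplex.mk C.g (0 : C.X₃ ⟶ C.X₃) comp_zero
    have hC' : C'.Exact := (ShortComplex.exact_iff_epi C' rfl).2 hC.epi_g
    obtain ⟨T, hT, hy⟩ := exists_local_preimage C' hC' (U := (specOver a).obj (op B)) z rfl
    obtain ⟨ι, _, D, f, hf, hmem⟩ := exists_covFam K a T hT
    obtain ⟨hflat, hsurj⟩ := covFam_props K hf
    choose y hy' using fun j => (show ∃ w, appL p (D j) w = mapA (F K a C.X₃) (f j) z from hy _ (hmem j))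
    have hker : ∀ j k, appL p (fo f j k) (mapA (F K a C.X₂) (ovR (f j) (f k)) (y k) -
        mapA (F K a C.X₂) (ovL (f j) (f k)) (y j)) = 0 := fun j k => by
      rw [map_sub, ← mapA_appL, ← mapA_appL, hy', hy', map_comp', map_comp',
        map_congr _ (ov_comm (f j) (f k)).symm z, sub_self]
    choose c hc using fun j k => (hmid _ _).1 (hker j k)
    obtain ⟨b, hb⟩ := exists_coboundary f hflat hF₁ hsurj c fun k j l => hinj _ (by
      rw [map_sub, ← mapA_appL i, ← mapA_appL i, ← mapA_appL i, hc, hc, hc, map_sub, map_sub, map_sub,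
        map_comp', map_comp', map_comp', map_comp', map_comp', map_comp', map_congr _ (ovR_lift _ _ _ _ _) (y l),
        map_congr _ (ovR_lift _ _ _ _ _) (y j), map_congr _ ((ovL_lift (f k) (f l) _ _ _).trans
          (ovL_lift (f k) (f j) _ (ovL (f j) (f l) ≫ ovR (f k) (foMap f j l))
            (by rw [ov_comm (f k) (foMap f j l), Category.assoc])).symm) (y k)]
      exact (sub_sub_sub_cancel_right _ _ _).symm)
    obtain ⟨x, hx⟩ := cov_glue K a C.X₂ hf (fun j => y j - appL i (D j) (b j)) (fun j k => ovL (f j) (f k))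
      (fun j k => ovR (f j) (f k)) (fun j k => ov_isPullback (f j) (f k)) fun j k => by
        rw [map_sub, map_sub, mapA_appL i, mapA_appL i]
        have := hc j k
        rw [hb, map_sub] at this
        linear_combination (norm := abel) this
    refine ⟨x, sub_eq_zero.1 (cov_separated K a C.X₃ hf _ fun j => ?_)⟩
    rw [map_sub, mapA_appL p, hx j, map_sub, hy', (hmid _ (appL i (D j) (b j))).2 ⟨_, rfl⟩, sub_zero, sub_self]
  let Sc : ShortComplex (MVF R) := C.map (toMVF K a)
  obtain ⟨e, he⟩ := exists_iso_kernel i p hinj hmid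
  haveI : Mono Sc.f := mono_of_injective' _ hinj
  haveI : Epi Sc.g := epi_of_surjective' _ hsur
  have hex : Sc.Exact := by
    rw [ShortComplex.exact_iff_epi_kernel_lift]
    have hl : kernel.lift Sc.g Sc.f Sc.zero = e.hom :=
      (cancel_mono (kernel.ι p)).1 ((kernel.lift_ι _ _ _).trans he.symm)
    rw [hl]
    exact (inferInstance : IsIso e.hom) |> fun _ => IsIso.epi_of_iso e.hom
  exact adequate_ext Sc ⟨hex⟩ hF₁ (adequate_of_adequateMod a C.X₃ h₃)

end GrothLib.AdeqMod20
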