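import Groth.Agent.Lib.AdeqMod20.Parasitic
import Mathlib.AlgebraicGeometry.Sites.Fpqc

/-!
# Adequate modules are sheaves for the fpqc topology
-/

set_option autoImplicit false
set_option linter.style.haveILetI false
set_option linter.unusedSectionVars false

universe u

open CategoryTheory CategoryTheory.Limits Opposite AlgebraicGeometry

noncomputable section

namespace GrothLib.AdeqMod20

open Adeq GrothLib.Adeq20

variable {K : Precoverage Scheme.{u}} [BigSite.OSh K] [hK : GoodPre K] {S : Scheme.{u}}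

set_option backward.isDefEq.respectTransparency.types false in
/-- An fpqc covering sieve of an affine scheme contains a finite covering family of flat algebras. -/
theorem exists_fpqc_refinement (R : CommRingCat.{u}) (T : Sieve (Spec R))
    (hT : T ∈ Scheme.fpqcPrecoverage.toGrothendieck (Spec R)) :
    ∃ (ι : Type u) (_ : Finite ι) (C : ι → Alg R),
      Sieve.ofArrows _ (fun i => Spec.map (CommRingCat.ofHom (algebraMap R (C i)))) ∈
        Scheme.fpqcPrecoverage.toGrothendieck (Spec R) ∧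
      (∀ i, (algebraMap R (C i)).Flat) ∧
      (∀ p : PrimeSpectrum R, ∃ i, ∃ q : PrimeSpectrum (C i : Type u), PrimeSpectrum.comap (algebraMap R (C i)) q = p) ∧
      ∀ i, T (Spec.map (CommRingCat.ofHom (algebraMap R (C i)))) := by
  obtain ⟨R₀, hR₀, hle⟩ := Precoverage.mem_toGrothendieck_iff_of_isStableUnderComposition.1 hT
  obtain ⟨𝒰₀, rfl⟩ := R₀.exists_eq_preZeroHypercover
  haveI : QuasiCompactCover 𝒰₀ := Scheme.presieve₀_mem_qcPrecoverage_iff.1 hR₀.1
  let 𝒰 : Scheme.Cover (Scheme.precoverage @Flat) (Spec R) := { 𝒰₀ with mem₀ := hR₀.2 }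
  haveI : QuasiCompactCover 𝒰.toPreZeroHypercover := ‹_›
  haveI : MorphismProperty.RespectsLeft @Flat @IsOpenImmersion :=
    ⟨fun i hi f hf => by
      haveI : IsOpenImmersion i := hi
      haveI : Flat f := hf
      exact inferInstanceAs (Flat (i ≫ f))⟩
  obtain ⟨𝒱, φ, hfin, -⟩ := QuasiCompactCover.exists_hom 𝒰
  obtain ⟨n, ⟨e⟩⟩ := Finite.exists_equiv_fin 𝒱.I₀
  let σ : ULift.{u} (Fin n) → 𝒱.I₀ := fun i => e.symm i.down
  have hσ : ∀ j, ∃ i, σ i = j := fun j => ⟨⟨e j⟩, e.symm_apply_apply j⟩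
  have key : ∀ (X : CommRingCat.{u}) (g : Spec X ⟶ Spec R), ∃ B : Alg R,
      ∃ d : Spec (CommRingCat.of B) ≅ Spec X, d.hom ≫ g = Spec.map (CommRingCat.ofHom (algebraMap R B)) :=
    fun X g =>
      letI := (Spec.preimage g).hom.toAlgebra
      ⟨algOf R X, Iso.refl _, (Category.id_comp g).trans (Spec.map_preimage g).symm⟩
  choose C d hC using fun i : ULift.{u} (Fin n) => key (𝒱.X (σ i)) (𝒱.f (σ i))
  refine ⟨ULift.{u} (Fin n), inferInstance, C, ?_, fun i => ?_, fun p => ?_, fun i => ?_⟩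
  · haveI : Finite 𝒱.cover.I₀ := hfin
    haveI : ∀ i, QuasiCompact (𝒱.cover.f i) := fun i => by
      haveI : IsAffine (𝒱.cover.X i) := inferInstanceAs (IsAffine (Spec (𝒱.X i)))
      infer_instance
    haveI : QuasiCompactCover 𝒱.cover.toPreZeroHypercover :=
      QuasiCompactCover.of_finite (K := Scheme.precoverage @Flat) (𝒰 := 𝒱.cover)
    have h₁ : 𝒱.cover.presieve₀ ∈ Scheme.fpqcPrecoverage (Spec R) :=
      ⟨Scheme.presieve₀_mem_qcPrecoverage_iff.2 inferInstance, 𝒱.cover.mem₀⟩
    refine Scheme.fpqcPrecoverage.toGrothendieck.superset_covering ?_ (Precoverage.generate_mem_toGrothendieck h₁)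
    refine (Sieve.generate_le_iff _ _).2 ?_
    rintro Z g ⟨j⟩
    obtain ⟨i, rfl⟩ := hσ j
    have h2 : 𝒱.f (σ i) = (d i).inv ≫ Spec.map (CommRingCat.ofHom (algebraMap R (C i))) := by
      rw [← hC, Iso.inv_hom_id_assoc]
    exact (congrArg (fun t => Sieve.ofArrows _ (fun i => Spec.map (CommRingCat.ofHom (algebraMap R (C i)))) t) h2).mpr
      (Sieve.downward_closed _ (Sieve.ofArrows_mk _ _ i) _)
  · haveI : Flat (Spec.map (CommRingCat.ofHom (algebraMap R (C i)))) := by
      rw [← hC]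
      haveI : Flat (𝒱.f (σ i)) := 𝒱.map_prop (σ i)
      infer_instance
    exact (HasRingHomProperty.Spec_iff (P := @Flat) (φ := CommRingCat.ofHom (algebraMap R (C i)))).1 inferInstance
  · obtain ⟨y, hy⟩ := 𝒱.covers p
    obtain ⟨i, hi⟩ := hσ (𝒱.idx p)
    revert y
    rw [← hi]
    intro y hy
    refine ⟨i, (d i).inv y, ?_⟩
    change (Spec.map (CommRingCat.ofHom (algebraMap R (C i)))) ((d i).inv y) = p
    rw [← hC, ← Scheme.Hom.comp_apply, Iso.inv_hom_id_assoc]
    exact hy
  · rw [← hC, show 𝒱.f (σ i) = φ.h₀ (σ i) ≫ 𝒰₀.f (φ.s₀ (σ i)) from (φ.w₀ (σ i)).symm]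
    exact T.downward_closed (T.downward_closed (hle _ _ (Presieve.ofArrows.mk _)) _) _

variable (M : BigSite.Mod K S) (hM : adequateMod K S M)

/-- The object of an affine open. -/
abbrev base {R : CommRingCat.{u}} (a : Spec R ⟶ S) : Over S := (specOver a).obj (op (algOf R R))

/-- The underlying presheaf of sets. -/
abbrev Fset : (Over S)ᵒᵖ ⥤ Type (u + 1) := M.val.presheaf ⋙ forget AddCommGrpCat.{u + 1}

omit hK in
theorem exists_base_fam {R : CommRingCat.{u}} (a : Spec R ⟶ S) (T : Sieve (base a))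
    (hT : T ∈ QuotSh.J Scheme.fpqcPrecoverage S (base a)) :
    ∃ (ι : Type u) (_ : Finite ι) (D : ι → Alg R) (f : ∀ i, algOf R R ⟶ D i),
      Sieve.ofArrows _ (fun i => siteHom a (f i)) ∈ QuotSh.J Scheme.fpqcPrecoverage S (base a) ∧
      (∀ i, (f i).hom.toRingHom.Flat) ∧
      (∀ p : PrimeSpectrum R, ∃ i, ∃ q : PrimeSpectrum (D i : Type u), PrimeSpectrum.comap (f i).hom.toRingHom q = p) ∧
      ∀ i, T (siteHom a (f i)) := by
  obtain ⟨ι, hfin, C, hcov, hflat, hsurj, hmem⟩ := exists_fpqc_refinement R (Sieve.overEquiv (base a) T)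
    ((GrothendieckTopology.mem_over_iff _ _).1 hT)
  let f : ∀ i, algOf R R ⟶ C i := fun i => CommAlgCat.ofHom (Algebra.ofId R (C i))
  let e : ∀ i, Over.mk (specAlg (f i) ≫ (base a).hom) ≅ (specOver a).obj (op (C i)) := fun i =>
    overEqIso (X := Spec (CommRingCat.of (C i : Type u))) (specAlg (f i) ≫ (base a).hom)
      (Spec.map (CommRingCat.ofHom (algebraMap R (C i : Type u))) ≫ a)
      ((Category.id_comp _).trans (Over.w (siteHom a (f i))).symm)
  have he : ∀ i, Over.homMk (U := Over.mk (specAlg (f i) ≫ (base a).hom)) (V := base a) (specAlg (f i)) rfl =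
      (e i).hom ≫ siteHom a (f i) := fun i => by
    ext : 1
    exact (Category.id_comp _).symm
  have he' : ∀ i, siteHom a (f i) =
      (e i).inv ≫ Over.homMk (U := Over.mk (specAlg (f i) ≫ (base a).hom)) (V := base a) (specAlg (f i)) rfl :=
    fun i => by rw [he, Iso.inv_hom_id_assoc]
  refine ⟨ι, hfin, C, f, ?_, hflat, hsurj, fun i => ?_⟩
  · rw [GrothendieckTopology.mem_over_iff]
    refine Scheme.fpqcPrecoverage.toGrothendieck.superset_covering ?_ hcov
    refine (Sieve.generate_le_iff _ _).2 ?_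
    rintro Z g ⟨i⟩
    refine (Sieve.overEquiv_iff _ _).2 ?_
    exact (congrArg (fun t => Sieve.ofArrows _ (fun i => siteHom a (f i)) t) (he i)).mpr
      (Sieve.downward_closed _ (Sieve.ofArrows_mk _ _ i) _)
  · exact (congrArg (fun t => T t) (he' i)).mpr (T.downward_closed ((Sieve.overEquiv_iff T _).1 (hmem i)) _)

include hK in
theorem mem_J_affines (U : Over S) {T : Sieve U}
    (h : ∀ V : U.left.Opens, (hV : IsAffineOpen V) →
      T (Over.homMk hV.fromSpec rfl : Over.mk (hV.fromSpec ≫ U.hom) ⟶ U)) : T ∈ QuotSh.J K S U :=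
  mem_J_of_opens T fun x => by
    obtain ⟨V, hV, hx, -⟩ := exists_isAffineOpen_mem_and_subset (x := x) (U := ⊤) trivial
    exact ⟨_, hV.fromSpec, inferInstance, by rw [hV.range_fromSpec]; exact hx, h V hV⟩

/-- The arrow from the affine object of an open to the object. -/
def baseHom {U : Over S} {V : U.left.Opens} (hV : IsAffineOpen V) : base (hV.fromSpec ≫ U.hom) ⟶ U :=
  Over.homMk hV.fromSpec (by
    change hV.fromSpec ≫ U.hom = Spec.map (CommRingCat.ofHom (algebraMap Γ(U.left, V) Γ(U.left, V))) ≫ hV.fromSpec ≫ U.hom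
    rw [show CommRingCat.ofHom (algebraMap Γ(U.left, V) Γ(U.left, V)) = 𝟙 _ from rfl, Spec.map_id]
    exact (Category.id_comp _).symm)

/-- The comparison with the object of the site of an affine open. -/
theorem exists_baseHom_factor {U : Over S} {V : U.left.Opens} (hV : IsAffineOpen V) :
    ∃ g : Over.mk (hV.fromSpec ≫ U.hom) ⟶ base (hV.fromSpec ≫ U.hom),
      g ≫ baseHom hV = Over.homMk hV.fromSpec rfl := by
  refine ⟨Over.homMk (𝟙 _) ?_, ?_⟩
  · change 𝟙 _ ≫ Spec.map (CommRingCat.ofHom (algebraMap Γ(U.left, V) Γ(U.left, V))) ≫ hV.fromSpec ≫ U.hom = hV.fromSpec ≫ U.hom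
    rw [show CommRingCat.ofHom (algebraMap Γ(U.left, V) Γ(U.left, V)) = 𝟙 _ from rfl, Spec.map_id]
    exact (Category.id_comp _).trans (Category.id_comp _)
  · ext : 1
    exact Category.id_comp _

include hK hM in
theorem fpqc_separated {U : Over S} {T : Sieve U} (hT : T ∈ QuotSh.J Scheme.fpqcPrecoverage S U)
    (x : M.val.presheaf.obj (op U)) (h : ∀ ⦃V : Over S⦄ (g : V ⟶ U), T g → M.val.presheaf.map g.op x = 0) : x = 0 := by
  refine eq_zero_of_sieve M (mem_J_affines (K := K) U (T := Presheaf.equalizerSieve (F := M.val.presheaf) (X := op U) x 0)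
    fun V hV => ?_) x fun V g hg => hg.trans (map_zero (M.val.presheaf.map g.op).hom)
  obtain ⟨g, hg⟩ := exists_baseHom_factor hV
  obtain ⟨ι, _, D, f, -, hflat, hsurj, hmem⟩ := exists_base_fam _ _
    ((QuotSh.J Scheme.fpqcPrecoverage S).pullback_stable (baseHom hV) hT)
  have h0 : (M.val.presheaf.map (baseHom hV).op x :) = 0 :=
    adequate_separated f hflat (adequate_of_adequateMod _ M hM) hsurj _ fun i => by
      refine Eq.trans ?_ (h _ (hmem i))
      rw [op_comp, Functor.map_comp]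
      rfl
  change M.val.presheaf.map (Over.homMk hV.fromSpec rfl : Over.mk (hV.fromSpec ≫ U.hom) ⟶ U).op x =
    M.val.presheaf.map _ 0
  rw [← hg, op_comp, Functor.map_comp, map_zero]
  exact (congrArg _ h0).trans (map_zero (M.val.presheaf.map g.op).hom)

include hK hM in
theorem fpqc_ext {U : Over S} {T : Sieve U} (hT : T ∈ QuotSh.J Scheme.fpqcPrecoverage S U)
    (x y : M.val.presheaf.obj (op U))
    (h : ∀ ⦃V : Over S⦄ (g : V ⟶ U), T g → M.val.presheaf.map g.op x = M.val.presheaf.map g.op y) : x = y :=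
  sub_eq_zero.1 (fpqc_separated M hM hT (x - y) fun V g hg => by rw [map_sub, h g hg, sub_self])

include hK hM in
theorem exists_base_amalgamation {R : CommRingCat.{u}} (a : Spec R ⟶ S) {T : Sieve (base a)}
    (hT : T ∈ QuotSh.J Scheme.fpqcPrecoverage S (base a)) (x : Presieve.FamilyOfElements (Fset M) T.arrows)
    (hx : x.Compatible) : ∃ m : M.val.presheaf.obj (op (base a)),
      ∀ ⦃V : Over S⦄ (g : V ⟶ base a) (hg : T g), M.val.presheaf.map g.op m = x g hg := by
  obtain ⟨ι, _, D, f, hcov, hflat, hsurj, hmem⟩ := exists_base_fam a T hT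
  obtain ⟨m, hm⟩ := adequate_glue f hflat (adequate_of_adequateMod a M hM) hsurj
    (fun i => x (siteHom a (f i)) (hmem i)) fun i j =>
    hx (siteHom a (overlapL f i j)) (siteHom a (overlapR f i j)) (hmem i) (hmem j) (by
      rw [← Functor.map_comp, ← Functor.map_comp, ← op_comp, ← op_comp, overlap_comm])
  refine ⟨m, fun V g hg => fpqc_ext M hM ((QuotSh.J Scheme.fpqcPrecoverage S).pullback_stable g hcov) _ _ ?_⟩
  rintro W h hh
  obtain ⟨Z, w, v, hv, hw⟩ := hh
  obtain ⟨i⟩ := hv
  refine ((ConcreteCategory.congr_hom (M.val.presheaf.map_comp g.op h.op) m).symm.trans ?_).trans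
    (hx w h (hmem i) hg hw)
  rw [← op_comp, ← hw, op_comp, Functor.map_comp]
  exact congrArg (M.val.presheaf.map w.op) (hm i)

include hK hM in
theorem isSheaf_fpqc : Presheaf.IsSheaf (QuotSh.J Scheme.fpqcPrecoverage S) M.val.presheaf := by
  rw [Presheaf.isSheaf_iff_isSheaf_forget _ _ (forget AddCommGrpCat.{u + 1}), isSheaf_iff_isSheaf_of_type]
  intro U T hT x hx
  have hxc : ∀ ⦃W : Over S⦄ {p q : W ⟶ U} (_ : p = q) (hp : T p) (hq : T q), x p hp = x q hq := by
    intro W p q h hp hq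
    subst h
    rfl
  choose m hm using fun (V : U.left.Opens) (hV : IsAffineOpen V) =>
    exists_base_amalgamation M hM (hV.fromSpec ≫ U.hom)
      ((QuotSh.J Scheme.fpqcPrecoverage S).pullback_stable (baseHom hV) hT) (x.pullback (baseHom hV)) (hx.pullback _)
  let X : {V : U.left.Opens // IsAffineOpen V} → Over S := fun V => base (V.2.fromSpec ≫ U.hom)
  let ι' : ∀ V, X V ⟶ U := fun V => baseHom V.2
  have hcov : Sieve.ofArrows X ι' ∈ QuotSh.J K S U := mem_J_affines (K := K) U fun V hV => by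
    obtain ⟨g, hg⟩ := exists_baseHom_factor hV
    rw [← hg]
    exact Sieve.downward_closed _ (Sieve.ofArrows_mk X ι' ⟨V, hV⟩) g
  have hcomp : Presieve.Arrows.Compatible (Fset M) ι' (fun V => m V.1 V.2) := fun V V' Z g g' w =>
    fpqc_ext M hM ((QuotSh.J Scheme.fpqcPrecoverage S).pullback_stable (g ≫ ι' V) hT) _ _ fun W h hh => by
      have h1 : T ((h ≫ g) ≫ ι' V) := by
        rw [Category.assoc]
        exact hh
      have h2 : T ((h ≫ g') ≫ ι' V') := by
        rw [Category.assoc, ← w]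
        exact hh
      refine ((ConcreteCategory.congr_hom (M.val.presheaf.map_comp g.op h.op) _).symm.trans ?_).trans
        (ConcreteCategory.congr_hom (M.val.presheaf.map_comp g'.op h.op) _)
      rw [← op_comp, ← op_comp]
      refine (hm V.1 V.2 (h ≫ g) h1).trans (Eq.trans ?_ (hm V'.1 V'.2 (h ≫ g') h2).symm)
      exact hxc (by rw [Category.assoc, Category.assoc, w]) _ _
  have hs := ((BigSite.toAbMod K S).obj M).property
  rw [Presheaf.isSheaf_iff_isSheaf_forget _ _ (forget AddCommGrpCat.{u + 1}), isSheaf_iff_isSheaf_of_type] at hs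
  obtain ⟨t, ht, -⟩ := (Presieve.isSheafFor_arrows_iff _ _).1
    ((Presieve.isSheafFor_iff_generate _).2 (hs _ hcov)) (fun V => m V.1 V.2) hcomp
  have hamal : ∀ ⦃W : Over S⦄ (g : W ⟶ U) (hg : T g), M.val.presheaf.map g.op t = x g hg := fun W g hg => by
    refine sub_eq_zero.1 (eq_zero_of_sieve M ((QuotSh.J K S).pullback_stable g hcov) _ fun W' h hh => ?_)
    obtain ⟨Z, w, v, hv, hw⟩ := hh
    obtain ⟨V⟩ := hv
    have h1 : T (w ≫ ι' V) := by
      rw [hw]
      exact T.downward_closed hg h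
    rw [map_sub, sub_eq_zero]
    refine ((ConcreteCategory.congr_hom (M.val.presheaf.map_comp g.op h.op) t).symm.trans ?_).trans
      ((hxc hw h1 _).trans (Presieve.compatible_iff_sieveCompatible x |>.1 hx g h hg))
    rw [← op_comp, ← hw, op_comp, Functor.map_comp]
    exact (congrArg (M.val.presheaf.map w.op) (ht V)).trans (hm V.1 V.2 w h1)
  exact ⟨t, hamal, fun t' ht' => fpqc_ext M hM hT t' t fun W g hg => (ht' g hg).trans (hamal g hg).symm⟩

end GrothLib.AdeqMod20
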