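import Groth.Agent.Lib.AdeqMod20.Cartan
import Mathlib.Algebra.Category.ModuleCat.Presheaf.Sheafification

/-!
# Injective modules on a big site are Čech acyclic and flasque
-/

set_option autoImplicit false
set_option linter.style.haveILetI false
set_option linter.unusedSectionVars false

universe u

open CategoryTheory CategoryTheory.Limits Opposite AlgebraicGeometry

noncomputable section

namespace GrothLib.AdeqMod20

open Adeq GrothLib.Adeq20

variable {K : Precoverage Scheme.{u}} [BigSite.OSh K] {S : Scheme.{u}}
  (P : PresheafOfModules.{u + 1} (BigSite.ORing K S).obj)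

/-- The values of a presheaf as groups. -/
abbrev vals : Over S → AddCommGrpCat.{u + 1} := fun V => P.presheaf.obj (op V)

/-- The scalar action on one component. -/
abbrev comp1 {W : (Over S)ᵒᵖ} {V : Over S} (g : V ⟶ W.unop) (r : (BigSite.ORing K S).obj.obj W)
    (x : P.obj (op V)) : P.obj (op V) := (BigSite.ORing K S).obj.map g.op r • x

instance gdmModule (W : (Over S)ᵒᵖ) : Module ((BigSite.ORing K S).obj.obj W) ((gdm (vals P)).obj W) where
  smul r s := fun V g => comp1 P g r ((s : ∀ V : Over S, (V ⟶ W.unop) → P.obj (op V)) V g)
  one_smul s := funext fun V => funext fun g =>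
    (congrArg (fun t : (BigSite.ORing K S).obj.obj (op V) => t • (show P.obj (op V) from (s : ∀ V : Over S, (V ⟶ W.unop) → P.obj (op V)) V g))
      (map_one _)).trans (one_smul _ _)
  mul_smul r r' s := funext fun V => funext fun g =>
    (congrArg (fun t : (BigSite.ORing K S).obj.obj (op V) => t • (show P.obj (op V) from (s : ∀ V : Over S, (V ⟶ W.unop) → P.obj (op V)) V g))
      (map_mul _ r r')).trans (mul_smul _ _ _)
  smul_zero r := funext fun V => funext fun g => smul_zero (A := P.obj (op V)) ((BigSite.ORing K S).obj.map g.op r)
  smul_add r s s' := funext fun V => funext fun g => smul_add (A := P.obj (op V)) ((BigSite.ORing K S).obj.map g.op r) _ _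
  add_smul r r' s := funext fun V => funext fun g =>
    (congrArg (fun t : (BigSite.ORing K S).obj.obj (op V) => t • (show P.obj (op V) from (s : ∀ V : Over S, (V ⟶ W.unop) → P.obj (op V)) V g))
      (map_add _ r r')).trans (add_smul _ _ _)
  zero_smul s := funext fun V => funext fun g =>
    (congrArg (fun t : (BigSite.ORing K S).obj.obj (op V) => t • (show P.obj (op V) from (s : ∀ V : Over S, (V ⟶ W.unop) → P.obj (op V)) V g))
      (map_zero _)).trans (zero_smul _ _)

/-- The Godement presheaf of modules. -/
def gdmMod : PresheafOfModules.{u + 1} (BigSite.ORing K S).obj :=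
  PresheafOfModules.ofPresheaf (gdm (vals P)) (by
    intro W W' f r s
    refine funext fun V => funext fun g => ?_
    let x : P.obj (op V) := (show ∀ V : Over S, (V ⟶ W.unop) → P.obj (op V) from s) V (g ≫ f.unop)
    change (BigSite.ORing K S).obj.map (g ≫ f.unop).op r • x =
      (BigSite.ORing K S).obj.map g.op ((BigSite.ORing K S).obj.map f r) • x
    exact congrArg (fun t : (BigSite.ORing K S).obj.obj (op V) => t • x)
      (ConcreteCategory.congr_hom ((BigSite.ORing K S).obj.map_comp f g.op) r))

/-- The embedding in the Godement presheaf. -/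
def gdmUnit : P ⟶ gdmMod P :=
  PresheafOfModules.homMk
    { app := fun W => AddCommGrpCat.ofHom
        (AddMonoidHom.mk' (fun x (V : Over S) (g : V ⟶ W.unop) => P.presheaf.map g.op x)
          (fun x y => funext fun V => funext fun g => map_add (P.presheaf.map g.op).hom x y))
      naturality := fun W W' f => by
        ext x
        exact funext fun V => funext fun g => (ConcreteCategory.congr_hom (P.presheaf.map_comp f g.op) x).symm }
    (fun W r x => funext fun V => funext fun g => P.map_smul g.op r x)

instance : Mono (gdmUnit P) := by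
  haveI : Mono ((PresheafOfModules.toPresheaf _).map (gdmUnit P)) := by
    haveI : ∀ W, Mono (((PresheafOfModules.toPresheaf _).map (gdmUnit P)).app W) := fun W =>
      (AddCommGrpCat.mono_iff_injective _).2 fun x y hxy => by
        have h := congrFun (congrFun hxy W.unop) (𝟙 _)
        exact (ConcreteCategory.congr_hom (P.presheaf.map_id W) x).symm.trans
          (h.trans (ConcreteCategory.congr_hom (P.presheaf.map_id W) y))
    exact NatTrans.mono_of_mono_app _
  exact (PresheafOfModules.toPresheaf _).mono_of_mono_map this

variable [GoodPre K] (I : BigSite.Mod K S) [Injective I]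

/-- An injective module is a retract of its Godement presheaf. -/
theorem exists_retraction : ∃ r : gdm (vals I.val) ⟶ I.val.presheaf,
    (PresheafOfModules.toPresheaf _).map (gdmUnit I.val) ≫ r = 𝟙 I.val.presheaf := by
  let α := 𝟙 (BigSite.ORing K S).obj
  haveI : Injective ((SheafOfModules.forget (BigSite.ORing K S) ⋙ PresheafOfModules.restrictScalars α).obj I) :=
    Injective.injective_of_adjoint (PresheafOfModules.sheafificationAdjunction.{u + 1} α) I
  haveI : Injective I.val := ‹_›
  refine ⟨(PresheafOfModules.toPresheaf _).map (Injective.factorThru (𝟙 I.val) (gdmUnit I.val)), ?_⟩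
  refine (Functor.map_comp _ _ _).symm.trans ?_
  rw [Injective.comp_factorThru]
  exact CategoryTheory.Functor.map_id _ _

omit [BigSite.OSh K] [GoodPre K] in
theorem gdm_map_surjective (A : Over S → AddCommGrpCat.{u + 1}) {U V : Over S} (j : U ⟶ V) [Mono j] :
    Function.Surjective ((gdm A).map j.op) := by
  classical
  intro s
  refine ⟨fun Z g => if h : ∃ g' : Z ⟶ U, g' ≫ j = g then (s : ∀ Z : Over S, (Z ⟶ U) → A Z) Z h.choose else 0,
    funext fun Z => funext fun g => ?_⟩
  have h : ∃ g' : Z ⟶ U, g' ≫ j = g ≫ j := ⟨g, rfl⟩
  change (if h : ∃ g' : Z ⟶ U, g' ≫ j = g ≫ j then (s : ∀ Z : Over S, (Z ⟶ U) → A Z) Z h.choose else 0) = _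
  rw [dif_pos h, (cancel_mono j).1 h.choose_spec]

/-- Sections of an injective module extend along monomorphisms. -/
theorem injective_map_surjective {U V : Over S} (j : U ⟶ V) [Mono j] : Function.Surjective (I.val.presheaf.map j.op) := by
  obtain ⟨r, hr⟩ := exists_retraction I
  intro x
  obtain ⟨y, hy⟩ := gdm_map_surjective (vals I.val) j (((PresheafOfModules.toPresheaf _).map (gdmUnit I.val)).app _ x)
  refine ⟨r.app _ y, ((NatTrans.naturality_apply r j.op y).symm.trans (congrArg _ hy)).trans ?_⟩
  exact ConcreteCategory.congr_hom (congrArg (fun t => NatTrans.app t (op U)) hr) x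

/-- An injective module on the fppf site is acyclic for affine coverings. -/
theorem acyc_injective_mod {X : Scheme.{u}} (I : BigSite.Mod Scheme.fppfPrecoverage X) [Injective I] :
    Acyc ((BigSite.toAbMod Scheme.fppfPrecoverage X).obj I) := fun R a B _ => by
  obtain ⟨r, hr⟩ := exists_retraction I
  exact kExact_retract a B ((PresheafOfModules.toPresheaf _).map (gdmUnit I.val)) r hr

end GrothLib.AdeqMod20
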