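import Groth.Agent.Lib.AdeqMod20.Sheaf
import Groth.Agent.Lib.Adeq20.Descent
import Groth.Agent.Lib.Adeq20.Ext
import Mathlib.CategoryTheory.Limits.Shapes.Biproducts

/-!
# Adequacy of a module may be checked on one covering
-/

set_option autoImplicit false
set_option linter.style.haveILetI false

universe u

open CategoryTheory CategoryTheory.Limits Opposite AlgebraicGeometry TensorProduct

noncomputable section

namespace GrothLib.Adeq20

open Adeq

variable {A : Type u} [CommRing A]

instance : HasFiniteBiproducts (MVF A) := Abelian.hasFiniteBiproducts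

theorem adequate_biproduct {ι : Type u} [Finite ι] (G : ι → MVF A) (h : ∀ i, adequate A (G i)) :
    adequate A (⨁ G) :=
  (adequate A).prop_of_iso ((Sigma.reindex Equiv.ulift.{u + 1} G) ≪≫ (biproduct.isoCoproduct G).symm)
    (adequate_sigma (G ∘ Equiv.ulift.{u + 1}) fun i => h _)

theorem biproduct_ext {ι : Type u} [Finite ι] (G : ι → MVF A) (B : Alg A) (x y : (⨁ G).obj (pt B))
    (h : ∀ i, appL (biproduct.π G i) B x = appL (biproduct.π G i) B y) : x = y := by
  classical
  haveI := Fintype.ofFinite ι
  let ev : (⨁ G ⟶ ⨁ G) →+ (⨁ G).obj (pt B) :=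
    AddMonoidHom.mk' (fun k => appL k B (x - y)) fun k k' => rfl
  have h0 : ∀ i, ev (biproduct.π G i ≫ biproduct.ι G i) = 0 := fun i => by
    change appL (biproduct.π G i ≫ biproduct.ι G i) B (x - y) = 0
    rw [comp_appL, map_sub, h i, sub_self, map_zero]
  have h1 : ev (∑ i, biproduct.π G i ≫ biproduct.ι G i) = 0 := by
    rw [map_sum]
    exact Finset.sum_eq_zero fun i _ => h0 i
  exact sub_eq_zero.1 (((congrArg ev (IsBilimit.total (biproduct.isBilimit G))).symm.trans h1 :
    ev (𝟙 (⨁ G)) = 0))

end GrothLib.Adeq20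

namespace GrothLib.AdeqMod20

open Adeq GrothLib.Adeq20

variable {K : Precoverage Scheme.{u}} [BigSite.OSh K] [GoodPre K] {S : Scheme.{u}} {R : CommRingCat.{u}}
  (a : Spec R ⟶ S) (M : BigSite.Mod K S)

/-- Adequacy descends along a finite affine covering. -/
theorem adequate_of_covering {ι : Type u} [Finite ι] {C : ι → Alg R}
    (hC : Presieve.ofArrows (fun i => Spec (CommRingCat.of (C i)))
      (fun i => Spec.map (CommRingCat.ofHom (algebraMap R (C i)))) ∈ K.coverings (Spec R))
    (h : ∀ i, adequate (C i : Type u) ((Adeq.restr R (C i : Type u)).obj (F K a M))) :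
    adequate R (F K a M) := by
  classical
  let G := F K a M
  let P : ι → MVF R := fun i => (pushRestr R (C i : Type u)).obj G
  let Q : ι × ι → MVF R := fun ij => (pushRestr R (C ij.2 : Type u)).obj (P ij.1)
  have hP : ∀ i, adequate R (P i) := fun i => adequate_push R (C i : Type u) (h i)
  have hQ : ∀ ij, adequate R (Q ij) := fun ij =>
    adequate_push R (C ij.2 : Type u) (adequate_restr R (C ij.2 : Type u) (hP ij.1))
  let e : G ⟶ ⨁ P := biproduct.lift fun i => etaPR R (C i : Type u) G
  let d : ⨁ P ⟶ ⨁ Q := biproduct.lift fun ij =>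
    biproduct.π P ij.1 ≫ etaPR R (C ij.2 : Type u) (P ij.1) -
      biproduct.π P ij.2 ≫ (pushRestr R (C ij.2 : Type u)).map (etaPR R (C ij.1 : Type u) G)
  have he : ∀ (B : Alg R) (x : G.obj (pt B)) (i : ι),
      appL (biproduct.π P i) B (appL e B x) = mapA G (tensUnit (C i) B) x := fun B x i =>
    (comp_appL e _ B x).symm.trans (by rw [biproduct.lift_π]; rfl)
  have hd : ∀ (B : Alg R) (z : (⨁ P).obj (pt B)) (i j : ι),
      appL (biproduct.π Q (i, j)) B (appL d B z) =
        mapA G ((Adeq.Alg.restr R (C i : Type u)).map ((Adeq.Alg.baseChange R (C i : Type u)).map (tensUnit (C j) B)))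
            (appL (biproduct.π P i) B z) -
          mapA G (tensUnit (C i) (tens (C j) B)) (appL (biproduct.π P j) B z) := fun B z i j =>
    (comp_appL d _ B z).symm.trans (by rw [biproduct.lift_π]; rfl)
  have hinj : ∀ B, Function.Injective (appL e B) := fun B => (injective_iff_map_eq_zero _).2 fun x hx =>
    cov_separated K a M (covFam_tens K hC B) x fun i => by
      rw [← he, hx, map_zero]
      rfl
  obtain ⟨iso, -⟩ := exists_iso_kernel e d hinj fun B z => by
    constructor
    · intro hz
      obtain ⟨x, hx⟩ := cov_glue K a M (covFam_tens K hC B) (fun i => appL (biproduct.π P i) B z)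
        (E := fun i j => tens (C i) (tens (C j) B))
        (fun i j => (Adeq.Alg.restr R (C i : Type u)).map ((Adeq.Alg.baseChange R (C i : Type u)).map (tensUnit (C j) B)))
        (fun i j => tensUnit (C i) (tens (C j) B))
        (fun i j => (tens_isPullback (C j) (C i) B).flip)
        (fun i j => sub_eq_zero.1 ((hd B z i j).symm.trans ((congrArg _ hz).trans (map_zero _))))
      exact ⟨x, biproduct_ext P B _ _ fun i => (he B x i).trans (hx i)⟩
    · rintro ⟨x, rfl⟩
      refine biproduct_ext Q B _ _ fun ij => ?_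
      obtain ⟨i, j⟩ := ij
      refine (hd B _ i j).trans ?_
      rw [he, he, map_zero]
      refine sub_eq_zero.2 ?_
      rw [map_comp', map_comp']
      refine map_congr G (ConcreteCategory.hom_ext _ _ fun b => ?_) x
      rfl
  exact (adequate R).prop_of_iso iso.symm
    (adequate_kernel d (adequate_biproduct P hP) (adequate_biproduct Q hQ))

/-- An adequate module has adequate sections over every affine object. -/
theorem adequate_of_adequateMod (hM : adequateMod K S M) : adequate R (F K a M) := by
  obtain ⟨ι₀, R₀, a₀, hcov, hadq⟩ := hM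
  obtain ⟨ι, _, C, hC, hmem⟩ := exists_affine_refinement K R _
    (K.toGrothendieck.pullback_stable a (Precoverage.generate_mem_toGrothendieck hcov))
  refine adequate_of_covering a M hC fun i => ?_
  obtain ⟨W, h, g, hg, hw⟩ := hmem i
  obtain ⟨i₀⟩ := hg
  let φ := Spec.preimage h
  letI : Algebra (R₀ i₀) (C i : Type u) := φ.hom.toAlgebra
  let C' : Alg (R₀ i₀) := algOf (R₀ i₀) (C i : Type u)
  have hφ : Spec.map (CommRingCat.ofHom (algebraMap (R₀ i₀) (C' : Type u))) ≫ a₀ i₀ =
      Spec.map (CommRingCat.ofHom (algebraMap R (C i : Type u))) ≫ a :=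
    (congrArg (· ≫ a₀ i₀) (Spec.map_preimage h)).trans hw
  obtain ⟨e₁⟩ := towerIso K (a := a) (C i) M.val _ rfl
  obtain ⟨e₂⟩ := towerIso K (a := a₀ i₀) C' M.val _ hφ
  exact (adequate (C i : Type u)).prop_of_iso (e₂.symm ≪≫ e₁) (adequate_restr (R₀ i₀) (C i : Type u) (hadq i₀))

/-- A module is adequate when all its affine section functors are. -/
theorem adequateMod_of_forall (h : ∀ (R : CommRingCat.{u}) (a : Spec R ⟶ S), adequate R (F K a M)) :
    adequateMod K S M := by
  obtain ⟨ι, Rs, as, hcov⟩ := exists_affine_covering K S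
  exact ⟨ι, Rs, as, hcov, fun i => h _ _⟩

end GrothLib.AdeqMod20
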