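import Groth.Agent.Lib.AdeqMod20.Limits

/-!
# Parasitic adequate modules, local preimages
-/

set_option autoImplicit false
set_option linter.style.haveILetI false
set_option linter.unusedSectionVars false

universe u

open CategoryTheory CategoryTheory.Limits Opposite AlgebraicGeometry TensorProduct

noncomputable section

namespace GrothLib.AdeqMod20

open Adeq GrothLib.Adeq20

variable {K : Precoverage Scheme.{u}} [BigSite.OSh K] [hK : GoodPre K] {S : Scheme.{u}}

include hK in
/-- A covering sieve contains a covering family. -/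
theorem exists_covering_sub {U : Over S} {T : Sieve U} (hT : T ∈ QuotSh.J K S U) :
    ∃ R₀ ∈ K.coverings U.left, ∀ ⦃Z : Scheme.{u}⦄ (g : Z ⟶ U.left), R₀ g →
      T (Over.homMk g rfl : Over.mk (g ≫ U.hom) ⟶ U) := by
  rw [GrothendieckTopology.mem_over_iff] at hT
  obtain ⟨P, rfl, _, _, -, -, -⟩ := hK.out
  obtain ⟨R₀, hR₀, hle⟩ := Precoverage.mem_toGrothendieck_iff_of_isStableUnderComposition.1 hT
  exact ⟨R₀, hR₀, fun Z g hg => (Sieve.overEquiv_iff T g).1 (hle _ _ hg)⟩

include hK in
/-- A sieve containing an open covering covers. -/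
theorem mem_J_of_opens {U : Over S} (T : Sieve U)
    (h : ∀ x : U.left, ∃ (V : Scheme.{u}) (v : V ⟶ U.left), IsOpenImmersion v ∧ x ∈ Set.range v ∧
      T (Over.homMk v rfl : Over.mk (v ≫ U.hom) ⟶ U)) : T ∈ QuotSh.J K S U := by
  rw [GrothendieckTopology.mem_over_iff]
  obtain ⟨P, rfl, -, -, hop, -, -⟩ := hK.out
  choose V v hv hx hT using h
  have hcov : Presieve.ofArrows V v ∈ (Scheme.precoverage P).coverings U.left :=
    (Scheme.ofArrows_mem_precoverage_iff P).2 ⟨fun x => ⟨x, hx x⟩, fun x => hop _ (hv x)⟩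
  refine (Scheme.precoverage P).toGrothendieck.superset_covering ?_ (Precoverage.generate_mem_toGrothendieck hcov)
  refine (Sieve.generate_le_iff _ _).2 ?_
  rintro Z g ⟨i⟩
  exact (Sieve.overEquiv_iff T (v i)).2 (hT i)

omit hK in
/-- A section vanishing on a covering sieve vanishes. -/
theorem eq_zero_of_sieve (M : BigSite.Mod K S) {U : Over S} {T : Sieve U} (hT : T ∈ QuotSh.J K S U)
    (x : M.val.presheaf.obj (op U)) (h : ∀ ⦃V : Over S⦄ (g : V ⟶ U), T g → M.val.presheaf.map g.op x = 0) : x = 0 := by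
  have hs := ((BigSite.toAbMod K S).obj M).property
  rw [Presheaf.isSheaf_iff_isSheaf_forget _ _ (forget AddCommGrpCat.{u + 1}), isSheaf_iff_isSheaf_of_type] at hs
  exact (hs T hT).isSeparatedFor.ext fun V g hg =>
    (h g hg).trans (map_zero (M.val.presheaf.map g.op).hom).symm

theorem subsingleton_of_iso (M : BigSite.Mod K S) {U V : Over S} (e : U ≅ V)
    (h : Subsingleton (BigSite.sectMod K M U)) : Subsingleton (BigSite.sectMod K M V) :=
  haveI : Subsingleton (M.val.presheaf.obj (op U)) := h
  ((ConcreteCategory.isIso_iff_bijective (M.val.presheaf.map e.hom.op)).1 inferInstance).1.subsingleton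

/-- An adequate functor vanishing at the base vanishes on flat algebras. -/
theorem subsingleton_of_flat {A : Type u} [CommRing A] {F : MVF A} (hF : adequate A F) {B C : Alg A} (f : B ⟶ C)
    (hf : f.hom.toRingHom.Flat) (h : Subsingleton (F.obj (pt B))) : Subsingleton (F.obj (pt C)) := by
  refine subsingleton_of_forall_eq 0 fun z => ?_
  letI := f.hom.toRingHom.toAlgebra
  haveI : IsIso (F.bc f) := adequate_flat hF f hf
  obtain ⟨w, rfl⟩ := ((ConcreteCategory.isIso_iff_bijective (F.bc f)).1 inferInstance).2 z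
  have hw : ∀ t : (C : Type u) ⊗[(B : Type u)] F.obj (pt B), t = 0 := fun t => by
    induction t using TensorProduct.induction_on with
    | zero => rfl
    | tmul c n => rw [h.elim n 0, TensorProduct.tmul_zero]
    | add a b ha hb => rw [ha, hb, add_zero]
  exact (congrArg (F.bc f).hom (hw w)).trans (map_zero (F.bc f).hom)

include hK in
/-- An adequate module vanishing on an open affine covering is parasitic. -/
theorem parasitic_of_affine_cover (M : BigSite.Mod K S) (hM : adequateMod K S M) {ι : Type u} (W : ι → S.Opens)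
    (hW : ∀ i, IsAffineOpen (W i)) (htop : (⨆ i, W i) = ⊤)
    (h : ∀ i, Subsingleton (BigSite.sectMod K M ((BigSite.zarIncl S).obj (W i)))) : parasitic K S M := by
  intro U hU
  refine subsingleton_of_forall_eq 0 fun x => ?_
  refine eq_zero_of_sieve M (U := U) (T := Presheaf.equalizerSieve (F := M.val.presheaf) (X := op U) x 0)
    (mem_J_of_opens _ fun p => ?_) x fun V g hg => hg.trans (map_zero (M.val.presheaf.map g.op).hom)
  obtain ⟨i, hi⟩ := TopologicalSpace.Opens.mem_iSup.1 (show U.hom p ∈ ⨆ i, W i by rw [htop]; trivial)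
  obtain ⟨_, ⟨V, hV, rfl⟩, hpV, hVle⟩ :=
    U.left.isBasis_affineOpens.exists_subset_of_mem_open hi (U.hom ⁻¹ᵁ W i).2
  let v : Spec Γ(U.left, V) ⟶ U.left := hV.fromSpec
  let a : Spec Γ(S, W i) ⟶ S := (hW i).fromSpec
  haveI : IsOpenImmersion v := IsAffineOpen.isOpenImmersion_fromSpec hV
  haveI : Flat v := inferInstance
  haveI := hU
  have hsub : Set.range (v ≫ U.hom) ⊆ Set.range a := by
    rintro _ ⟨y, rfl⟩
    rw [(hW i).range_fromSpec]
    exact hVle (hV.range_fromSpec ▸ ⟨y, rfl⟩ : v y ∈ (V : Set U.left))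
  let w : Spec Γ(U.left, V) ⟶ Spec Γ(S, W i) := IsOpenImmersion.lift a (v ≫ U.hom) hsub
  have hw : w ≫ a = v ≫ U.hom := IsOpenImmersion.lift_fac a (v ≫ U.hom) hsub
  have hflat : Flat w := by
    haveI : Flat (v ≫ U.hom) := inferInstance
    exact MorphismProperty.of_isPullback (P := @Flat)
      (IsPullback.of_horiz_isIso_mono (fst := 𝟙 _) (snd := w) (f := v ≫ U.hom) (g := a)
        ⟨(Category.id_comp _).trans hw.symm⟩) inferInstance
  refine ⟨_, v, inferInstance, hV.range_fromSpec.symm ▸ hpV, ?_⟩
  let φ := Spec.preimage w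
  letI : Algebra Γ(S, W i) Γ(U.left, V) := φ.hom.toAlgebra
  let C : Alg Γ(S, W i) := algOf Γ(S, W i) Γ(U.left, V)
  have hφ : Spec.map (CommRingCat.ofHom (algebraMap Γ(S, W i) (C : Type u))) = w := Spec.map_preimage w
  have h1 : φ.hom.Flat := (HasRingHomProperty.Spec_iff (P := @Flat)).1 (by rw [Spec.map_preimage]; exact hflat)
  have h0 : Subsingleton (((toMVF K a).obj M).obj (pt (algOf Γ(S, W i) Γ(S, W i)))) :=
    subsingleton_of_iso M (Over.isoMk (f := (BigSite.zarIncl S).obj (W i))
      (g := (specOver a).obj (op (algOf Γ(S, W i) Γ(S, W i)))) (hW i).isoSpec (by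
        change (hW i).isoSpec.hom ≫ Spec.map (CommRingCat.ofHom (algebraMap Γ(S, W i) Γ(S, W i))) ≫ a = (W i).ι
        rw [show CommRingCat.ofHom (algebraMap Γ(S, W i) Γ(S, W i)) = 𝟙 _ from rfl, Spec.map_id]
        erw [Category.id_comp]
        exact IsAffineOpen.isoSpec_hom_fromSpec _)) (h i)
  have h2 : Subsingleton (((toMVF K a).obj M).obj (pt C)) :=
    subsingleton_of_flat (adequate_of_adequateMod a M hM) (B := algOf Γ(S, W i) Γ(S, W i)) (C := C)
      (CommAlgCat.ofHom (Algebra.ofId Γ(S, W i) Γ(U.left, V))) h1 h0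
  exact (subsingleton_of_iso M (overEqIso (X := Spec Γ(U.left, V))
    (Spec.map (CommRingCat.ofHom (algebraMap Γ(S, W i) (C : Type u))) ≫ a) (v ≫ U.hom)
    (by rw [Category.id_comp, hφ, hw])) h2).elim _ _

include hK in
theorem parasiticFor_of_parasitic (M : BigSite.Mod K S) (h : parasitic K S M) : parasiticFor K S M := by
  intro P hP V g hg
  obtain ⟨Q, rfl, -, -, -, hflat, -⟩ := hK.out
  exact h (Over.mk g) (hflat _ (hP.2 hg))

include hK in
theorem subsingleton_of_parasiticFor (M : BigSite.Mod K S) (h : parasiticFor K S M) (U : S.Opens) :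
    Subsingleton (BigSite.sectMod K M ((BigSite.zarIncl S).obj U)) := by
  obtain ⟨Q, rfl, -, -, hop, -, -⟩ := hK.out
  let X : ULift.{u} Bool → Scheme.{u} := fun b => (cond b.down U ⊤ : S.Opens)
  let f : ∀ b, X b ⟶ S := fun b => (cond b.down U ⊤ : S.Opens).ι
  have hcov : Presieve.ofArrows X f ∈ (Scheme.precoverage Q).coverings S :=
    (Scheme.ofArrows_mem_precoverage_iff Q).2 ⟨fun x => ⟨⟨false⟩, ⟨x, trivial⟩, rfl⟩,
      fun b => hop _ inferInstance⟩
  exact h hcov U.ι (Presieve.ofArrows.mk (f := f) ⟨true⟩)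

include hK in
/-- For a complex exact in the middle, a cycle comes locally from the left. -/
theorem exists_local_preimage (C : ShortComplex (BigSite.Mod K S)) (hC : C.Exact) {U : Over S}
    (x : C.X₂.val.presheaf.obj (op U)) (hx : C.g.val.app (op U) x = 0) :
    ∃ T ∈ QuotSh.J K S U, ∀ ⦃V : Over S⦄ (g : V ⟶ U), T g →
      ∃ y, C.f.val.app (op V) y = C.X₂.val.presheaf.map g.op x := by
  let α := 𝟙 (BigSite.ORing K S).obj
  let adj := PresheafOfModules.sheafificationAdjunction.{u + 1} α
  let G := SheafOfModules.forget.{u + 1} (BigSite.ORing K S) ⋙ PresheafOfModules.restrictScalars α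
  let q : G.obj C.X₂ ⟶ cokernel (G.map C.f) := cokernel.π _
  let d : cokernel (G.map C.f) ⟶ G.obj C.X₃ := cokernel.desc _ (G.map C.g) (by rw [← G.map_comp, C.zero, G.map_zero])
  let e : (PresheafOfModules.sheafification α).obj (cokernel (G.map C.f)) ≅ cokernel C.f :=
    PreservesCokernel.iso (PresheafOfModules.sheafification α) (G.map C.f) ≪≫
      cokernel.mapIso _ C.f (asIso (adj.counit.app C.X₁)) (asIso (adj.counit.app C.X₂)) (adj.counit.naturality C.f)
  let l : (PresheafOfModules.sheafification α).obj (cokernel (G.map C.f)) ⟶ C.X₃ := (adj.homEquiv _ _).symm d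
  have hl : e.hom ≫ cokernel.desc C.f C.g C.zero = l := by
    haveI : Epi ((PresheafOfModules.sheafification α).map q) := inferInstance
    rw [← cancel_epi ((PresheafOfModules.sheafification α).map q)]
    have h1 : (PresheafOfModules.sheafification α).map q ≫ l = adj.counit.app C.X₂ ≫ C.g := by
      rw [← Adjunction.homEquiv_naturality_left_symm, cokernel.π_desc, Adjunction.homEquiv_counit]
      exact adj.counit.naturality C.g
    refine Eq.trans ?_ h1.symm
    simp only [e, q, Iso.trans_hom, Category.assoc, PreservesCokernel.π_iso_hom_assoc]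
    erw [cokernel.π_desc_assoc]
    rw [Category.assoc, cokernel.π_desc]
    rfl
  haveI : Mono (cokernel.desc C.f C.g C.zero) := hC.mono_cokernelDesc
  haveI : Mono l := hl ▸ mono_comp _ _
  let E := PresheafOfModules.evaluation.{u + 1} (BigSite.ORing K S).obj (op U)
  have hinj : Function.Injective (l.val.app (op U)) :=
    (ModuleCat.mono_iff_injective _).1
      (inferInstanceAs (Mono ((SheafOfModules.forget (BigSite.ORing K S) ⋙ E).map l)))
  have hd : adj.unit.app (cokernel (G.map C.f)) ≫ G.map l = d :=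
    (Adjunction.homEquiv_unit _ _ _ _).symm.trans ((adj.homEquiv _ _).apply_symm_apply d)
  have hqd : q ≫ d = G.map C.g := cokernel.π_desc _ _ _
  have hz : (shfη (cokernel (G.map C.f))).app (op U) (q.app (op U) x) = 0 := by
    refine hinj (Eq.trans ?_ (map_zero (l.val.app (op U)).hom).symm)
    exact (ConcreteCategory.congr_hom (congrArg (fun t => PresheafOfModules.Hom.app t (op U)) hd) (q.app (op U) x)).trans
      ((ConcreteCategory.congr_hom (congrArg (fun t => PresheafOfModules.Hom.app t (op U)) hqd) x).trans hx)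
  refine ⟨_, Presheaf.equalizerSieve_mem (QuotSh.J K S) (shfη (cokernel (G.map C.f))) (X := op U)
    (q.app (op U) x) (0 : (cokernel (G.map C.f)).obj (op U)) (hz.trans (map_zero _).symm), fun V g hg => ?_⟩
  have hq : q.app (op V) (C.X₂.val.presheaf.map g.op x) = 0 :=
    (PresheafOfModules.naturality_apply q g.op x).trans (hg.trans (map_zero _))
  let EV := PresheafOfModules.evaluation.{u + 1} (BigSite.ORing K S).obj (op V)
  have hex : ((ShortComplex.mk (G.map C.f) q (cokernel.condition _)).map EV).Exact :=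
    (ShortComplex.exact_of_g_is_cokernel _ (cokernelIsCokernel _)).map EV
  exact (ShortComplex.moduleCat_exact_iff _).1 hex _ hq

end GrothLib.AdeqMod20
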