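import Groth.Agent.Lib.AdeqMod20.Sections
import Groth.Agent.Lib.Adeq20.Push
import Mathlib.AlgebraicGeometry.Morphisms.QuasiSeparated
import Mathlib.AlgebraicGeometry.Morphisms.QuasiCompact

/-!
# The pushforward of an adequate module along a quasi-compact quasi-separated morphism
-/

set_option autoImplicit false
set_option linter.style.haveILetI false
set_option linter.unusedSectionVars false

universe u

open CategoryTheory CategoryTheory.Limits Opposite AlgebraicGeometry TensorProduct

noncomputable section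

namespace GrothLib.AdeqMod20

open Adeq GrothLib.Adeq20

variable {R : CommRingCat.{u}} {P T : Scheme.{u}} (π : P ⟶ T) (q : P ⟶ Spec R)
  {K : Precoverage Scheme.{u}} [BigSite.OSh K] [hK : GoodPre K] (M : BigSite.Mod K T)

/-- The underlying presheaf of the functor of sections, on a natural family of isomorphisms. -/
theorem bijective_map {U V : Over T} (e : U ⟶ V) [IsIso e] : Function.Bijective (M.val.presheaf.map e.op) :=
  (ConcreteCategory.isIso_iff_bijective _).1 inferInstance

include hK in
theorem adequate_G_affine (hM : adequateMod K T M) {V : P.Opens} (hV : IsAffineOpen V) : adequate R (G π q K M V) := by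
  let φ := Spec.preimage (hV.fromSpec ≫ q)
  letI : Algebra R Γ(P, V) := φ.hom.toAlgebra
  let C : Type u := Γ(P, V)
  let t : Spec Γ(P, V) ⟶ T := hV.fromSpec ≫ π
  have hφ : Spec.map (CommRingCat.ofHom (algebraMap R Γ(P, V))) = hV.fromSpec ≫ q := Spec.map_preimage _
  let cR : ∀ B : Alg R, Spec (CommRingCat.of (C ⊗[R] (B : Type u))) ⟶ Spec Γ(P, V) := fun B =>
    Spec.map (CommRingCat.ofHom (algebraMap C (C ⊗[R] (B : Type u))))
  let cB : ∀ B : Alg R, Spec (CommRingCat.of (C ⊗[R] (B : Type u))) ⟶ Spec (CommRingCat.of (B : Type u)) := fun B =>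
    Spec.map (CommRingCat.ofHom (Algebra.TensorProduct.includeRight : (B : Type u) →ₐ[R] C ⊗[R] (B : Type u)).toRingHom)
  have hsq : ∀ B : Alg R, IsPullback (cR B) (cB B) (hV.fromSpec ≫ q) (specStr B) := fun B => by
    rw [← hφ]
    exact isPullback_SpecMap_of_isPushout _ _ _ _ (CommRingCat.isPushout_tensorProduct R C (B : Type u))
  let κ : ∀ B : Alg R, Spec (CommRingCat.of (C ⊗[R] (B : Type u))) ⟶ W q B := fun B =>
    pullback.lift (cR B ≫ hV.fromSpec) (cB B) ((Category.assoc _ _ _).trans (hsq B).w)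
  have hκ : ∀ B, IsPullback (cR B) (κ B) hV.fromSpec (wFst q B) := fun B => by
    refine IsPullback.of_bot ?_ (pullback.lift_fst _ _ _).symm (IsPullback.of_hasPullback q (specStr B))
    simpa only [κ, pullback.lift_snd] using hsq B
  have hoi : ∀ B, IsOpenImmersion (κ B) := fun B =>
    MorphismProperty.of_isPullback (P := @IsOpenImmersion) (hκ B) inferInstance
  have hrange : ∀ B, Set.range (κ B) = Set.range (wFst q B ⁻¹ᵁ V).ι := fun B => by
    have h := (hκ B).flip.isoPullback_hom_fst
    rw [Scheme.Opens.range_ι, ← h, Scheme.Hom.comp_base, TopCat.coe_comp, Set.range_comp,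
      show Set.range (hκ B).flip.isoPullback.hom = Set.univ from Set.range_eq_univ.2 (Scheme.Hom.surjective _), Set.image_univ,
      IsOpenImmersion.range_pullbackFst, hV.opensRange_fromSpec]
  let j : ∀ B : Alg R, Spec (CommRingCat.of (C ⊗[R] (B : Type u))) ≅ (wFst q B ⁻¹ᵁ V).toScheme := fun B =>
    haveI := hoi B
    IsOpenImmersion.isoOfRangeEq (κ B) (wFst q B ⁻¹ᵁ V).ι (hrange B)
  have hj : ∀ B : Alg R, (j B).hom ≫ (wFst q B ⁻¹ᵁ V).ι = κ B := fun B =>
    haveI := hoi B
    IsOpenImmersion.isoOfRangeEq_hom_fac _ _ _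
  have hw : ∀ B : Alg R, (j B).hom ≫ (wFst q B ⁻¹ᵁ V).ι ≫ wFst q B ≫ π = cR B ≫ t := fun B => by
    rw [← Category.assoc, hj, ← Category.assoc, pullback.lift_fst, Category.assoc]
  let θ : ∀ B : Alg R, (specOver (R := Γ(P, V)) t).obj (op ((Adeq.Alg.baseChange R C).obj B)) ≅ objU π q V B := fun B =>
    Over.isoMk (f := Over.mk (cR B ≫ t)) (g := Over.mk ((wFst q B ⁻¹ᵁ V).ι ≫ wFst q B ≫ π)) (j B) (hw B)
  have hθ : ∀ B, (θ B).hom.left ≫ (wFst q B ⁻¹ᵁ V).ι = κ B := hj
  have hnat : ∀ (B B' : Alg R) (g : B ⟶ B'), κ B' ≫ wMap q g =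
      Spec.map (CommRingCat.ofHom ((Adeq.Alg.baseChange R C).map g).hom.toRingHom) ≫ κ B := fun B B' g => by
    apply pullback.hom_ext
    · rw [Category.assoc, wMap_fst, pullback.lift_fst, Category.assoc, pullback.lift_fst, ← Category.assoc]
      refine congrArg (· ≫ hV.fromSpec) ?_
      change cR B' = Spec.map (CommRingCat.ofHom ((Adeq.Alg.baseChange R C).map g).hom.toRingHom) ≫ cR B
      rw [← Spec.map_comp, ← CommRingCat.ofHom_comp]
      exact congrArg (fun r => Spec.map (CommRingCat.ofHom r))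
        (((Adeq.Alg.baseChange R C).map g).hom.comp_algebraMap).symm
    · rw [Category.assoc, wMap_snd, ← Category.assoc, pullback.lift_snd, Category.assoc, pullback.lift_snd]
      change cB B' ≫ _ = Spec.map (CommRingCat.ofHom ((Adeq.Alg.baseChange R C).map g).hom.toRingHom) ≫ cB B
      rw [← Spec.map_comp, ← Spec.map_comp, ← CommRingCat.ofHom_comp, ← CommRingCat.ofHom_comp]
      exact congrArg (fun r => Spec.map (CommRingCat.ofHom r)) (RingHom.ext fun b => rfl)
  let hh : G π q K M V ⟶ (Adeq.push R C).obj (F K (R := Γ(P, V)) t M) :=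
    mkHom (fun B =>
      { toFun := fun x => M.val.presheaf.map (θ B).hom.op x
        map_add' := fun x y => map_add (M.val.presheaf.map (θ B).hom.op).hom x y
        map_smul' := fun b x => by
          refine (M.val.map_smul (θ B).hom.op (sectU π q K V B b) x).trans ?_
          refine congrArg₂ (· • ·) ?_ rfl
          apply ULift.ext
          change ((Scheme.ΓSpecIso (CommRingCat.of (B : Type u))).inv ≫
              ((wFst q B ⁻¹ᵁ V).ι ≫ pullback.snd q (specStr B)).appTop ≫ (θ B).hom.left.appTop) b =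
            (CommRingCat.ofHom (Algebra.TensorProduct.includeRight : (B : Type u) →ₐ[R] C ⊗[R] (B : Type u)).toRingHom ≫
              (Scheme.ΓSpecIso (CommRingCat.of (C ⊗[R] (B : Type u)))).inv) b
          rw [Scheme.ΓSpecIso_inv_naturality, ← Scheme.Hom.comp_appTop, ← Category.assoc (θ B).hom.left, hθ]
          erw [pullback.lift_snd]
          rfl })
      fun B B' g x => natural_sq K M.val (θ B).hom (θ B').hom
        ((specOver (R := Γ(P, V)) t).map ((Adeq.Alg.baseChange R C).map g).op) (objMap π q V g) (by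
          ext : 1
          refine (cancel_mono (wFst q B ⁻¹ᵁ V).ι).1 ?_
          refine ((Category.assoc _ _ _).trans (congrArg ((θ B').hom.left ≫ ·) (objMap_ι π q V g))).trans ?_
          refine ((Category.assoc _ _ _).symm.trans (congrArg (· ≫ wMap q g) (hθ B'))).trans ?_
          exact (hnat B B' g).trans ((congrArg (_ ≫ ·) (hθ B)).symm.trans (Category.assoc _ _ _).symm)) x
  have hb : ∀ B, Function.Bijective (appL hh B) := fun B => bijective_map M (θ B).hom
  haveI : Mono hh := mono_of_injective' hh fun B => (hb B).1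
  haveI : Epi hh := epi_of_surjective' hh fun B => (hb B).2
  haveI : IsIso hh := isIso_of_mono_of_epi hh
  exact (adequate R).prop_of_iso (asIso hh).symm
    (adequate_push R C (adequate_of_adequateMod (R := Γ(P, V)) t M hM))

include hK in
theorem adequate_G_compact_le_affine (hM : adequateMod K T M) {U V : P.Opens} (hV : IsAffineOpen V) (hle : U ≤ V)
    (hU : IsCompact (U : Set P)) : adequate R (G π q K M U) := by
  classical
  choose f hf hx using fun x : U => hV.exists_basicOpen_le (V := U) x (hle x.2)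
  obtain ⟨s, hs⟩ := hU.elim_finite_subcover (fun x : U => ((P.basicOpen (f x) : P.Opens) : Set P))
    (fun x => (P.basicOpen (f x)).2) fun y hy => Set.mem_iUnion.2 ⟨⟨y, hy⟩, hx _⟩
  refine adequate_G_of_cover π q K M U (fun x : s => P.basicOpen (f x)) (fun x => hf x) (fun y hy => ?_)
    (fun x => adequate_G_affine π q M hM (hV.basicOpen _)) fun x y => ?_
  · obtain ⟨x, hxs, hxy⟩ := Set.mem_iUnion₂.1 (hs hy)
    exact TopologicalSpace.Opens.mem_iSup.2 ⟨⟨x, hxs⟩, hxy⟩
  · rw [← Scheme.basicOpen_mul]
    exact adequate_G_affine π q M hM (hV.basicOpen _)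

include hK in
theorem adequate_G_top (hM : adequateMod K T M) [CompactSpace P] [QuasiSeparatedSpace P] :
    adequate R (G π q K M ⊤) := by
  classical
  choose V hV hx _ using fun x : P => exists_isAffineOpen_mem_and_subset (x := x) (U := ⊤) trivial
  obtain ⟨s, hs⟩ := isCompact_univ.elim_finite_subcover (fun x : P => (V x : Set P)) (fun x => (V x).2)
    fun y _ => Set.mem_iUnion.2 ⟨y, hx y⟩
  refine adequate_G_of_cover π q K M ⊤ (fun x : s => V x) (fun x => le_top) (fun y _ => ?_)
    (fun x => adequate_G_affine π q M hM (hV x)) fun x y => ?_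
  · obtain ⟨x, hxs, hxy⟩ := Set.mem_iUnion₂.1 (hs (Set.mem_univ y))
    exact TopologicalSpace.Opens.mem_iSup.2 ⟨⟨x, hxs⟩, hxy⟩
  · exact adequate_G_compact_le_affine π q M hM (hV x) inf_le_left
      (QuasiSeparatedSpace.inter_isCompact _ _ (V x).2 (hV x).isCompact (V y).2 (hV y).isCompact)

variable {S : Scheme.{u}} (f : T ⟶ S) (a : Spec R ⟶ S)

include hK in
theorem adequate_pushMod (hM : adequateMod K T M) [QuasiCompact f] [QuasiSeparated f] :
    adequate R (F K a ((BigSite.pushMod K f).obj M)) := by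
  let P₀ := pullback f a
  let π₀ : P₀ ⟶ T := pullback.fst f a
  let q₀ : P₀ ⟶ Spec R := pullback.snd f a
  haveI : CompactSpace P₀ := QuasiCompact.compactSpace_of_compactSpace q₀
  haveI : QuasiSeparatedSpace P₀ := quasiSeparatedSpace_of_quasiSeparated q₀
  let χ : ∀ B : Alg R, W q₀ B ⟶ pullback (specStr B ≫ a) f := fun B =>
    pullback.lift (pullback.snd q₀ (specStr B)) (wFst q₀ B ≫ π₀) (by
      rw [← Category.assoc, ← pullback.condition, Category.assoc, Category.assoc, pullback.condition])
  have hsq : ∀ B : Alg R, IsPullback (pullback.snd q₀ (specStr B)) (wFst q₀ B ≫ π₀) (specStr B ≫ a) f := fun B =>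
    (IsPullback.of_hasPullback q₀ (specStr B)).flip.paste_vert (IsPullback.of_hasPullback f a).flip
  have hiso : ∀ B, IsIso (χ B) := fun B => by
    have h : χ B = (hsq B).isoPullback.hom := by
      apply pullback.hom_ext
      · exact (pullback.lift_fst _ _ _).trans (hsq B).isoPullback_hom_fst.symm
      · exact (pullback.lift_snd _ _ _).trans (hsq B).isoPullback_hom_snd.symm
    rw [h]
    infer_instance
  let ν : ∀ B : Alg R, objU π₀ q₀ ⊤ B ⟶ (Over.pullback f).obj ((specOver a).obj (op B)) := fun B =>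
    Over.homMk (U := Over.mk ((wFst q₀ B ⁻¹ᵁ ⊤).ι ≫ wFst q₀ B ≫ π₀)) (V := Over.mk (pullback.snd (specStr B ≫ a) f))
      ((wFst q₀ B ⁻¹ᵁ ⊤).ι ≫ χ B) (by
        change ((wFst q₀ B ⁻¹ᵁ ⊤).ι ≫ χ B) ≫ pullback.snd (specStr B ≫ a) f = _
        rw [Category.assoc, pullback.lift_snd]
        rfl)
  have hν : ∀ B, IsIso (ν B) := fun B => by
    haveI : IsIso (ν B).left := by
      haveI := hiso B
      haveI : IsIso (wFst q₀ B ⁻¹ᵁ (⊤ : P₀.Opens)).ι := inferInstanceAs (IsIso (W q₀ B).topIso.hom)
      exact inferInstanceAs (IsIso ((wFst q₀ B ⁻¹ᵁ ⊤).ι ≫ χ B))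
    haveI : IsIso ((Over.forget T).map (ν B)) := this
    exact isIso_of_reflects_iso (ν B) (Over.forget T)
  let hh : F K a ((BigSite.pushMod K f).obj M) ⟶ G π₀ q₀ K M ⊤ :=
    mkHom (fun B =>
      { toFun := fun x => M.val.presheaf.map (ν B).op x
        map_add' := fun x y => map_add (M.val.presheaf.map (ν B).op).hom x y
        map_smul' := fun b x => by
          refine (M.val.map_smul (ν B).op _ x).trans ?_
          refine congrArg₂ (· • ·) ?_ rfl
          apply ULift.ext
          change ((Scheme.ΓSpecIso (CommRingCat.of (B : Type u))).inv ≫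
              (pullback.fst (specStr B ≫ a) f).appTop ≫ ((wFst q₀ B ⁻¹ᵁ ⊤).ι ≫ χ B).appTop) b =
            ((Scheme.ΓSpecIso (CommRingCat.of (B : Type u))).inv ≫
              ((wFst q₀ B ⁻¹ᵁ ⊤).ι ≫ pullback.snd q₀ (specStr B)).appTop) b
          rw [← Scheme.Hom.comp_appTop, Category.assoc, pullback.lift_fst] })
      fun B B' g x => natural_sq K M.val (ν B) (ν B') (objMap π₀ q₀ ⊤ g) ((Over.pullback f).map ((specOver a).map g.op)) (by
        ext : 1
        change ((wFst q₀ B' ⁻¹ᵁ ⊤).ι ≫ χ B') ≫ pullback.lift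
            (pullback.fst (specStr B' ≫ a) f ≫ Spec.map (CommRingCat.ofHom g.hom.toRingHom))
            (pullback.snd (specStr B' ≫ a) f)
            (by rw [Category.assoc, ← Category.assoc (Spec.map _), specStr_comp, pullback.condition]) =
          (objMap π₀ q₀ ⊤ g).left ≫ (wFst q₀ B ⁻¹ᵁ ⊤).ι ≫ χ B
        rw [← Category.assoc (objMap π₀ q₀ ⊤ g).left, objMap_ι]
        apply pullback.hom_ext
        · simp only [Category.assoc, pullback.lift_fst, pullback.lift_fst_assoc, wMap_snd, χ]
        · simp only [Category.assoc, pullback.lift_snd, χ]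
          rw [← Category.assoc (wMap q₀ g), wMap_fst]) x
  have hb : ∀ B, Function.Bijective (appL hh B) := fun B =>
    haveI := hν B
    bijective_map M (ν B)
  haveI : Mono hh := mono_of_injective' hh fun B => (hb B).1
  haveI : Epi hh := epi_of_surjective' hh fun B => (hb B).2
  haveI : IsIso hh := isIso_of_mono_of_epi hh
  exact (adequate R).prop_of_iso (asIso hh).symm (adequate_G_top π₀ q₀ M hM)

include hK in
theorem adequateMod_pushMod (hM : adequateMod K T M) [QuasiCompact f] [QuasiSeparated f] :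
    adequateMod K S ((BigSite.pushMod K f).obj M) :=
  adequateMod_of_forall _ fun _ a => adequate_pushMod M f a hM

end GrothLib.AdeqMod20
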