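import Groth.Agent.Lib.AdeqMod20.SecFun
import Groth.Agent.Lib.AdeqMod20.InjMod
import Mathlib.CategoryTheory.Abelian.RightDerived
import Mathlib.Algebra.Homology.HomologySequence
import Mathlib.Algebra.Homology.HomologicalComplexAbelian
import Mathlib.Algebra.Homology.HomologicalComplexBiprod

/-!
# Sections of an injective resolution of an adequate module over quasi-compact opens
-/

set_option autoImplicit false
set_option linter.style.haveILetI false
set_option linter.unusedSectionVars false

universe u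

open CategoryTheory CategoryTheory.Limits Opposite AlgebraicGeometry

noncomputable section

namespace GrothLib.AdeqMod20

open Adeq GrothLib.Adeq20

local notation "fppf" => Scheme.fppfPrecoverage

variable {T : Scheme.{u}} {M : BigSite.Mod fppf T} (I : InjectiveResolution M)

theorem adequateMod_cycles_zero (hM : adequateMod fppf T M) : adequateMod fppf T (I.cocomplex.cycles 0) :=
  (adequateMod fppf T).prop_of_iso
    (IsLimit.conePointUniqueUpToIso I.isLimitKernelFork (I.cocomplex.cyclesIsKernel 0 1 (by simp))) hM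

theorem parasitic_cycles_zero (hM : parasitic fppf T M) : parasitic fppf T (I.cocomplex.cycles 0) :=
  (parasitic fppf T).prop_of_iso
    (IsLimit.conePointUniqueUpToIso I.isLimitKernelFork (I.cocomplex.cyclesIsKernel 0 1 (by simp))) hM

/-- Cycles of a complex of modules have as sections the sections killed by the differential. -/
theorem cycles_sections (K : CochainComplex (BigSite.Mod fppf T) ℕ) (i : ℕ) (U : Over T) :
    Function.Injective ((K.iCycles i).val.app (op U)) ∧
      ∀ x, (K.d i (i + 1)).val.app (op U) x = 0 ↔ ∃ y, (K.iCycles i).val.app (op U) y = x := by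
  let G := SheafOfModules.forget (BigSite.ORing fppf T) ⋙
    PresheafOfModules.evaluation.{u + 1} (BigSite.ORing fppf T).obj (op U)
  haveI : Mono (G.map (K.iCycles i)) := inferInstance
  have hex : ((ShortComplex.mk (K.iCycles i) (K.d i (i + 1)) (K.iCycles_d i (i + 1))).map G).Exact :=
    (ShortComplex.exact_of_f_is_kernel _ (K.cyclesIsKernel i (i + 1) (by simp))).map_of_mono_of_preservesKernel G
      (inferInstanceAs (Mono (K.iCycles i))) inferInstance
  refine ⟨(ModuleCat.mono_iff_injective _).1 (inferInstanceAs (Mono (G.map (K.iCycles i)))), fun x => ⟨fun hx => ?_, ?_⟩⟩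
  · exact (ShortComplex.moduleCat_exact_iff _).1 hex x hx
  · rintro ⟨y, rfl⟩
    exact ConcreteCategory.congr_hom
      ((ShortComplex.mk (K.iCycles i) (K.d i (i + 1)) (K.iCycles_d i (i + 1))).map G).zero y

/-- The cycle sequence in a degree. -/
abbrev cycSES (i : ℕ) : ShortComplex (BigSite.Ab fppf T) :=
  ShortComplex.mk ((BigSite.toAbMod fppf T).map (I.cocomplex.iCycles i))
    ((BigSite.toAbMod fppf T).map (I.cocomplex.toCycles i (i + 1))) (by
      rw [← Functor.map_comp, ← (BigSite.toAbMod fppf T).map_zero]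
      refine congrArg _ ?_
      rw [← cancel_mono (I.cocomplex.iCycles (i + 1)), Category.assoc, HomologicalComplex.toCycles_i,
        HomologicalComplex.iCycles_d, zero_comp])

theorem toCycles_sections (i : ℕ) (U : Over T) (x : (I.cocomplex.X i).val.presheaf.obj (op U)) :
    (I.cocomplex.iCycles (i + 1)).val.app (op U) ((I.cocomplex.toCycles i (i + 1)).val.app (op U) x) =
      (I.cocomplex.d i (i + 1)).val.app (op U) x := by
  rw [← HomologicalComplex.toCycles_i I.cocomplex i (i + 1)]
  rfl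

theorem cycSES_shortExact (i : ℕ) : (cycSES I i).ShortExact := by
  have w : I.cocomplex.iCycles i ≫ I.cocomplex.toCycles i (i + 1) = 0 := by
      rw [← cancel_mono (I.cocomplex.iCycles (i + 1)), Category.assoc, HomologicalComplex.toCycles_i,
        HomologicalComplex.iCycles_d, zero_comp]
  have hker : IsLimit (KernelFork.ofι (I.cocomplex.iCycles i) w) :=
    KernelFork.IsLimit.ofι' _ _ fun k hk => ⟨I.cocomplex.liftCycles k (i + 1) (by simp) (by
      rw [← HomologicalComplex.toCycles_i I.cocomplex i (i + 1), ← Category.assoc, hk, zero_comp]), by simp⟩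
  haveI : Mono (cycSES I i).f := inferInstanceAs (Mono ((BigSite.toAbMod fppf T).map (I.cocomplex.iCycles i)))
  haveI : Epi (cycSES I i).g := by
    refine (Sheaf.isLocallySurjective_iff_epi' (φ := (cycSES I i).g)).1 ⟨fun {W} z => ?_⟩
    have hC := I.exact_succ i
    obtain ⟨S', hS', hS''⟩ := exists_local_preimage (ShortComplex.mk _ _ (I.cocomplex.d_comp_d i (i + 1) (i + 2))) hC
      (U := W) ((I.cocomplex.iCycles (i + 1)).val.app (op W) z)
      (((cycles_sections I.cocomplex (i + 1) W).2 _).2 ⟨z, rfl⟩)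
    refine GrothendieckTopology.superset_covering _ (fun V g hg => ?_) hS'
    obtain ⟨y, hy⟩ := hS'' g hg
    refine ⟨y, (cycles_sections I.cocomplex (i + 1) V).1 ?_⟩
    exact (toCycles_sections I i V y).trans
      (hy.trans (PresheafOfModules.naturality_apply (I.cocomplex.iCycles (i + 1)).val g.op z).symm)
  refine { exact := ?_ }
  exact (ShortComplex.exact_of_f_is_kernel (ShortComplex.mk (I.cocomplex.iCycles i) (I.cocomplex.toCycles i (i + 1)) w)
    hker).map_of_mono_of_preservesKernel (BigSite.toAbMod fppf T)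
    (inferInstanceAs (Mono (I.cocomplex.iCycles i))) inferInstance

theorem acyc_cycles (hM : adequateMod fppf T M) : ∀ i, Acyc ((BigSite.toAbMod fppf T).obj (I.cocomplex.cycles i))
  | 0 => acyc_of_adequateMod _ (adequateMod_cycles_zero I hM)
  | i + 1 => acyc_quotient _ (cycSES_shortExact I i) (acyc_cycles hM i) (acyc_injective_mod _)

/-- Over affine objects the resolution has exact sections. -/
theorem exists_d_eq (hM : adequateMod fppf T M) (i : ℕ) (U : Over T) [IsAffine U.left]
    (x : (I.cocomplex.X (i + 1)).val.presheaf.obj (op U))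
    (hx : (I.cocomplex.d (i + 1) (i + 2)).val.app (op U) x = 0) :
    ∃ y, (I.cocomplex.d i (i + 1)).val.app (op U) y = x := by
  obtain ⟨z, hz⟩ := ((cycles_sections I.cocomplex (i + 1) U).2 x).1 hx
  obtain ⟨y, hy⟩ := exists_lift_affine _ (cycSES_shortExact I i) (acyc_cycles I hM i) U z
  refine ⟨y, ?_⟩
  rw [← toCycles_sections I i U y, ← hz]
  exact congrArg _ hy

section

variable {R : CommRingCat.{u}} {P : Scheme.{u}} (π : P ⟶ T) (q : P ⟶ Spec R)

/-- The complex of sections over an open. -/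
abbrev Cx (U : P.Opens) : CochainComplex (MVF R) ℕ :=
  ((GF π q fppf U).mapHomologicalComplex _).obj I.cocomplex

theorem isAffine_objU {V : P.Opens} (hV : IsAffineOpen V) (B : Alg R) : IsAffine (objU π q V B).left := by
  haveI : IsAffineHom (wFst q B) :=
    MorphismProperty.of_isPullback (P := @IsAffineHom) (IsPullback.of_hasPullback q (specStr B)).flip inferInstance
  exact hV.preimage (wFst q B)

variable {p : Prop}

theorem inCl_affine (hM : adequateMod fppf T M) (hp : p → parasitic fppf T M ∧ Flat π) {V : P.Opens}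
    (hV : IsAffineOpen V) : ∀ i, InCl p ((Cx I π q V).homology i)
  | 0 => by
    have hG := inCl_G_affine π q fppf (adequateMod_cycles_zero I hM)
      (fun h => ⟨parasitic_cycles_zero I (hp h).1, (hp h).2⟩) hV
    obtain ⟨e, -⟩ := exists_iso_kernel ((GF π q fppf V).map (I.cocomplex.iCycles 0)) ((Cx I π q V).d 0 1)
      (fun B => (cycles_sections I.cocomplex 0 (objU π q V B)).1)
      (fun B x => (cycles_sections I.cocomplex 0 (objU π q V B)).2 x)
    exact hG.of_iso (e ≪≫ IsLimit.conePointUniqueUpToIso (limit.isLimit _)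
      ((Cx I π q V).cyclesIsKernel 0 1 (by simp)) ≪≫ (Cx I π q V).isoHomologyπ₀)
  | i + 1 => by
    refine InCl.of_isZero ((HomologicalComplex.exactAt_iff_isZero_homology _ _).1 ?_)
    rw [HomologicalComplex.exactAt_iff' _ i (i + 1) (i + 2) (by simp) (by simp)]
    refine exact_of_appL _ fun B x hx => ?_
    haveI := isAffine_objU π q hV B
    exact exists_d_eq I hM i (objU π q V B) x hx

section MayerVietoris

variable (U₁ U₂ : P.Opens)

/-- Restriction of complexes. -/
abbrev cxRes {U V : P.Opens} (h : U ≤ V) : Cx I π q V ⟶ Cx I π q U :=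
  (NatTrans.mapHomologicalComplex (gResN π q fppf h) _).app I.cocomplex

/-- The Mayer–Vietoris sequence of the complexes of sections. -/
def mvSES : ShortComplex (CochainComplex (MVF R) ℕ) :=
  ShortComplex.mk
    (biprod.lift (cxRes I π q (le_sup_left : U₁ ≤ U₁ ⊔ U₂)) (cxRes I π q (le_sup_right : U₂ ≤ U₁ ⊔ U₂)))
    (biprod.desc (cxRes I π q (inf_le_left : U₁ ⊓ U₂ ≤ U₁)) (-cxRes I π q (inf_le_right : U₁ ⊓ U₂ ≤ U₂))) (by
      rw [biprod.lift_desc, Preadditive.comp_neg, add_neg_eq_zero]
      ext n : 1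
      refine hom_ext' fun B x => ?_
      exact (res_res π q fppf (I.cocomplex.X n) _ _ B x).trans (res_res π q fppf (I.cocomplex.X n) _ _ B x).symm)

theorem mvSES_shortExact : (mvSES I π q U₁ U₂).ShortExact := by
  refine HomologicalComplex.shortExact_of_degreewise_shortExact _ fun n => ?_
  let K := Cx I π q U₁
  let L := Cx I π q U₂
  let f := (mvSES I π q U₁ U₂).f.f n
  let g := (mvSES I π q U₁ U₂).g.f n
  let X := I.cocomplex.X n
  have hf₁ : ∀ B x, appL ((biprod.fst : K ⊞ L ⟶ K).f n) B (appL f B x) =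
      X.val.presheaf.map (objIncl π q (le_sup_left : U₁ ≤ U₁ ⊔ U₂) B).op x := fun B x => by
    have h : f ≫ (biprod.fst : K ⊞ L ⟶ K).f n = (cxRes I π q (le_sup_left : U₁ ≤ U₁ ⊔ U₂)).f n :=
      (HomologicalComplex.comp_f _ _ _).symm.trans (congrArg (fun t : Cx I π q (U₁ ⊔ U₂) ⟶ K => t.f n) (biprod.lift_fst _ _))
    exact (comp_appL _ _ _ _).symm.trans (congrArg (fun t => appL t B x) h)
  have hf₂ : ∀ B x, appL ((biprod.snd : K ⊞ L ⟶ L).f n) B (appL f B x) =
      X.val.presheaf.map (objIncl π q (le_sup_right : U₂ ≤ U₁ ⊔ U₂) B).op x := fun B x => by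
    have h : f ≫ (biprod.snd : K ⊞ L ⟶ L).f n = (cxRes I π q (le_sup_right : U₂ ≤ U₁ ⊔ U₂)).f n :=
      (HomologicalComplex.comp_f _ _ _).symm.trans (congrArg (fun t : Cx I π q (U₁ ⊔ U₂) ⟶ L => t.f n) (biprod.lift_snd _ _))
    exact (comp_appL _ _ _ _).symm.trans (congrArg (fun t => appL t B x) h)
  have hdec : ∀ B (z : ((K ⊞ L).X n).obj (pt B)),
      z = appL ((biprod.inl : K ⟶ K ⊞ L).f n) B (appL ((biprod.fst : K ⊞ L ⟶ K).f n) B z) +
        appL ((biprod.inr : L ⟶ K ⊞ L).f n) B (appL ((biprod.snd : K ⊞ L ⟶ L).f n) B z) := fun B z => by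
    have h := congrArg (fun t : K ⊞ L ⟶ K ⊞ L => appL (t.f n) B z) (biprod.total (X := K) (Y := L))
    exact h.symm
  have hg₁ : ∀ B x, appL g B (appL ((biprod.inl : K ⟶ K ⊞ L).f n) B x) =
      X.val.presheaf.map (objIncl π q (inf_le_left : U₁ ⊓ U₂ ≤ U₁) B).op x := fun B x => by
    have h : (biprod.inl : K ⟶ K ⊞ L).f n ≫ g = (cxRes I π q (inf_le_left : U₁ ⊓ U₂ ≤ U₁)).f n :=
      (HomologicalComplex.comp_f _ _ _).symm.trans (congrArg (fun t : K ⟶ Cx I π q (U₁ ⊓ U₂) => t.f n) (biprod.inl_desc _ _))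
    exact (comp_appL _ _ _ _).symm.trans (congrArg (fun t => appL t B x) h)
  have hg₂ : ∀ B x, appL g B (appL ((biprod.inr : L ⟶ K ⊞ L).f n) B x) =
      -X.val.presheaf.map (objIncl π q (inf_le_right : U₁ ⊓ U₂ ≤ U₂) B).op x := fun B x => by
    have h : (biprod.inr : L ⟶ K ⊞ L).f n ≫ g = (-cxRes I π q (inf_le_right : U₁ ⊓ U₂ ≤ U₂)).f n :=
      (HomologicalComplex.comp_f _ _ _).symm.trans (congrArg (fun t : L ⟶ Cx I π q (U₁ ⊓ U₂) => t.f n) (biprod.inr_desc _ _))
    exact (comp_appL _ _ _ _).symm.trans (congrArg (fun t => appL t B x) h)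
  haveI : Mono ((mvSES I π q U₁ U₂).map (HomologicalComplex.eval _ _ n)).f :=
    mono_of_injective' f fun B => (injective_iff_map_eq_zero _).2 fun x hx =>
      (glue₂ π q fppf X le_sup_left le_sup_right le_rfl B).1 x
        ((hf₁ B x).symm.trans ((congrArg _ hx).trans (map_zero _)))
        ((hf₂ B x).symm.trans ((congrArg _ hx).trans (map_zero _)))
  haveI : Epi ((mvSES I π q U₁ U₂).map (HomologicalComplex.eval _ _ n)).g :=
    epi_of_surjective' g fun B x => by
      obtain ⟨y, hy⟩ := injective_map_surjective X (objIncl π q (inf_le_left : U₁ ⊓ U₂ ≤ U₁) B) x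
      exact ⟨_, (hg₁ B y).trans hy⟩
  refine { exact := exact_of_appL _ fun B (z : ((K ⊞ L).X n).obj (pt B)) hz => ?_ }
  let z₁ := appL ((biprod.fst : K ⊞ L ⟶ K).f n) B z
  let z₂ := appL ((biprod.snd : K ⊞ L ⟶ L).f n) B z
  have hz' : X.val.presheaf.map (objIncl π q (inf_le_left : U₁ ⊓ U₂ ≤ U₁) B).op z₁ =
      X.val.presheaf.map (objIncl π q (inf_le_right : U₁ ⊓ U₂ ≤ U₂) B).op z₂ := by
    have h0 : appL g B (appL ((biprod.inl : K ⟶ K ⊞ L).f n) B z₁ + appL ((biprod.inr : L ⟶ K ⊞ L).f n) B z₂) = 0 :=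
      (congrArg (appL g B) (hdec B z)).symm.trans hz
    exact eq_of_add_neg_eq_zero ((congrArg₂ (· + ·) (hg₁ B z₁) (hg₂ B z₂)).symm.trans ((map_add _ _ _).symm.trans h0))
  obtain ⟨x, hx₁, hx₂⟩ := (glue₂ π q fppf X le_sup_left le_sup_right le_rfl B).2 z₁ z₂ hz'
  refine ⟨x, (hdec B (appL f B x)).trans (Eq.trans ?_ (hdec B z).symm)⟩
  exact congrArg₂ (· + ·) (congrArg _ ((hf₁ B x).trans hx₁)) (congrArg _ ((hf₂ B x).trans hx₂))

variable {U₁ U₂} in
theorem inCl_sup (h₁ : ∀ i, InCl p ((Cx I π q U₁).homology i)) (h₂ : ∀ i, InCl p ((Cx I π q U₂).homology i))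
    (h₁₂ : ∀ i, InCl p ((Cx I π q (U₁ ⊓ U₂)).homology i)) : ∀ i, InCl p ((Cx I π q (U₁ ⊔ U₂)).homology i) := by
  let S := mvSES I π q U₁ U₂
  have hS : S.ShortExact := mvSES_shortExact I π q U₁ U₂
  have h : ∀ i, InCl p (S.X₂.homology i) := fun i =>
    haveI : PreservesBinaryBiproducts (HomologicalComplex.homologyFunctor (MVF R) (ComplexShape.up ℕ) i) :=
      preservesBinaryBiproducts_of_preservesBiproducts _
    ((h₁ i).biprod (h₂ i)).of_iso ((HomologicalComplex.homologyFunctor (MVF R) (ComplexShape.up ℕ) i).mapBiprod (Cx I π q U₁) (Cx I π q U₂)).symm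
  intro i
  change InCl p (S.X₁.homology i)
  cases i with
  | zero =>
    have hex := hS.homology_exact₂ 0
    haveI : Mono (HomologicalComplex.homologyMap S.f 0) := by
      haveI := hS.mono_f
      haveI : Mono (S.f.f 0) := inferInstance
      haveI : Mono (HomologicalComplex.cyclesMap S.f 0) :=
        mono_of_mono_fac (HomologicalComplex.cyclesMap_i S.f 0)
      haveI : Mono (HomologicalComplex.homologyMap S.f 0 ≫ S.X₂.isoHomologyπ₀.inv) := by
        rw [CochainComplex.isoHomologyπ₀_inv_naturality]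
        infer_instance
      exact mono_of_mono _ S.X₂.isoHomologyπ₀.inv
    exact ((h 0).kernel (HomologicalComplex.homologyMap S.g 0) (h₁₂ 0)).of_iso
      (IsLimit.conePointUniqueUpToIso (limit.isLimit _) hex.fIsKernel)
  | succ i =>
    exact InCl.middle (HomologicalComplex.homologyMap S.g i) (hS.δ i (i + 1) (by simp))
      (HomologicalComplex.homologyMap S.f (i + 1)) (HomologicalComplex.homologyMap S.g (i + 1))
      (hS.comp_δ i (i + 1) (by simp)) (hS.δ_comp i (i + 1) (by simp))
      (by rw [← HomologicalComplex.homologyMap_comp, S.zero, HomologicalComplex.homologyMap_zero])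
      (hS.homology_exact₃ i (i + 1) (by simp)) (hS.homology_exact₁ i (i + 1) (by simp))
      (hS.homology_exact₂ (i + 1)) (h i) (h₁₂ i) (h (i + 1)) (h₁₂ (i + 1))

end MayerVietoris

theorem inCl_basicOpens (hM : adequateMod fppf T M) (hp : p → parasitic fppf T M ∧ Flat π) {V : P.Opens}
    (hV : IsAffineOpen V) : ∀ (n : ℕ) (l : List Γ(P, V)), l.length = n →
      ∀ i, InCl p ((Cx I π q (l.foldr (fun f W => P.basicOpen f ⊔ W) ⊥)).homology i) := by
  intro n
  induction n with
  | zero =>
    intro l hl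
    obtain rfl := List.eq_nil_of_length_eq_zero hl
    exact inCl_affine I π q hM hp (isAffineOpen_bot P)
  | succ n ih =>
    rintro (_ | ⟨f, l⟩) hl
    · simp at hl
    · have hl' : l.length = n := by simpa using hl
      refine inCl_sup I π q (inCl_affine I π q hM hp (hV.basicOpen f)) (ih l hl') ?_
      have hinter : P.basicOpen f ⊓ l.foldr (fun f W => P.basicOpen f ⊔ W) ⊥ =
          (l.map (f * ·)).foldr (fun f W => P.basicOpen f ⊔ W) ⊥ := by
        clear hl hl'
        induction l with
        | nil => simp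
        | cons g l ihl => simp only [List.foldr_cons, List.map_cons, inf_sup_left, ihl, Scheme.basicOpen_mul]
      rw [hinter]
      exact ih _ (by simpa using hl')

theorem inCl_le_affine (hM : adequateMod fppf T M) (hp : p → parasitic fppf T M ∧ Flat π) {U V : P.Opens}
    (hV : IsAffineOpen V) (hle : U ≤ V) (hU : IsCompact (U : Set P)) : ∀ i, InCl p ((Cx I π q U).homology i) := by
  classical
  choose f hf hx using fun x : U => hV.exists_basicOpen_le (V := U) x (hle x.2)
  obtain ⟨s, hs⟩ := hU.elim_finite_subcover (fun x : U => ((P.basicOpen (f x) : P.Opens) : Set P))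
    (fun x => (P.basicOpen (f x)).2) fun y hy => Set.mem_iUnion.2 ⟨⟨y, hy⟩, hx _⟩
  have hmem : ∀ (l : List Γ(P, V)) (y : P), y ∈ l.foldr (fun f W => P.basicOpen f ⊔ W) ⊥ ↔
      ∃ g ∈ l, y ∈ P.basicOpen g := fun l y => by
    induction l with
    | nil => simp
    | cons g l ihl => simp [ihl]
  have heq : U = (s.toList.map f).foldr (fun f W => P.basicOpen f ⊔ W) ⊥ := by
    refine TopologicalSpace.Opens.ext (Set.ext fun y => ?_)
    refine Iff.trans ?_ (hmem _ y).symm
    constructor
    · intro hy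
      obtain ⟨x, hxs, hxy⟩ := Set.mem_iUnion₂.1 (hs hy)
      exact ⟨f x, List.mem_map.2 ⟨x, Finset.mem_toList.2 hxs, rfl⟩, hxy⟩
    · rintro ⟨g, hg, hy⟩
      obtain ⟨x, -, rfl⟩ := List.mem_map.1 hg
      exact hf x hy
  rw [heq]
  exact inCl_basicOpens I π q hM hp hV _ _ rfl

theorem inCl_compact (hM : adequateMod fppf T M) (hp : p → parasitic fppf T M ∧ Flat π) [QuasiSeparatedSpace P]
    (U : P.Opens) (hU : IsCompact (U : Set P)) : ∀ i, InCl p ((Cx I π q U).homology i) := by
  refine compact_open_induction_on U hU (inCl_affine I π q hM hp (isAffineOpen_bot P)) fun S hS V hS' => ?_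
  exact inCl_sup I π q hS' (inCl_affine I π q hM hp V.2) (inCl_le_affine I π q hM hp V.2 inf_le_right
    (QuasiSeparatedSpace.inter_isCompact _ _ S.2 hS V.1.2 V.2.isCompact))

end

end GrothLib.AdeqMod20
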