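import Groth.Agent.Lib.AdeqMod20.Push
import Groth.Agent.Lib.AdeqMod20.Parasitic
import Groth.Agent.Lib.Adeq20.Ext
import Mathlib.Algebra.Category.ModuleCat.Sheaf.Limits
import Mathlib.Algebra.Homology.Additive

/-!
# Sections over opens as a functor of the module; a Serre class of module-valued functors
-/

set_option autoImplicit false
set_option linter.style.haveILetI false
set_option linter.unusedSectionVars false

universe u

open CategoryTheory CategoryTheory.Limits Opposite AlgebraicGeometry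

noncomputable section

namespace GrothLib.AdeqMod20

open Adeq GrothLib.Adeq20

variable {R : CommRingCat.{u}}

/-- Adequate functors, vanishing at the base ring if `p` holds. -/
def InCl (p : Prop) (F : MVF R) : Prop :=
  adequate R F ∧ (p → Subsingleton (F.obj (pt (algOf R R))))

namespace InCl

variable {p : Prop} {F G : MVF R}

theorem of_iso (h : InCl p F) (e : F ≅ G) : InCl p G := by
  refine ⟨(adequate R).prop_of_iso e h.1, fun hp => ?_⟩
  haveI := h.2 hp
  exact (surjective_appL e.hom (algOf R R)).subsingleton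

theorem of_isZero (hF : IsZero F) : InCl p F := by
  refine ⟨⟨ModuleCat.of R PUnit.{u + 2}, ModuleCat.of R PUnit.{u + 2}, 𝟙 _, ⟨hF.iso ?_⟩⟩, fun _ => ?_⟩
  · exact isZero_kernel_of_mono _
  · exact subsingleton_of_forall_eq 0 fun x => by
      have h : appL (𝟙 F) (algOf R R) x = appL (0 : F ⟶ F) (algOf R R) x := by rw [hF.eq_of_src (𝟙 F) 0]
      exact h

theorem kernel (φ : F ⟶ G) (hF : InCl p F) (hG : InCl p G) : InCl p (Limits.kernel φ) := by
  refine ⟨adequate_kernel φ hF.1 hG.1, fun hp => ?_⟩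
  haveI := hF.2 hp
  exact (injective_appL (Limits.kernel.ι φ) (algOf R R)).subsingleton

theorem cokernel (φ : F ⟶ G) (hF : InCl p F) (hG : InCl p G) : InCl p (Limits.cokernel φ) := by
  refine ⟨adequate_cokernel φ hF.1 hG.1, fun hp => ?_⟩
  haveI := hG.2 hp
  exact (surjective_appL (Limits.cokernel.π φ) (algOf R R)).subsingleton

theorem ext (S : ShortComplex (MVF R)) (hS : S.ShortExact) (h₁ : InCl p S.X₁) (h₃ : InCl p S.X₃) :
    InCl p S.X₂ := by
  refine ⟨adequate_ext S hS h₁.1 h₃.1, fun hp => subsingleton_of_forall_eq 0 fun x => ?_⟩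
  haveI := h₁.2 hp
  haveI := h₃.2 hp
  obtain ⟨y, rfl⟩ := exact_appL hS.exact (algOf R R) x (Subsingleton.elim _ _)
  exact (congrArg _ (Subsingleton.elim y 0)).trans (map_zero _)

theorem biprod (hF : InCl p F) (hG : InCl p G) : InCl p (F ⊞ G) := by
  refine ⟨adequate_biprod hF.1 hG.1, fun hp => subsingleton_of_forall_eq 0 fun x => ?_⟩
  haveI := hF.2 hp
  haveI := hG.2 hp
  have h : appL (Limits.biprod.fst ≫ Limits.biprod.inl + Limits.biprod.snd ≫ Limits.biprod.inr : F ⊞ G ⟶ F ⊞ G) (algOf R R) x = x := by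
    rw [Limits.biprod.total]
    rfl
  rw [← h]
  change appL Limits.biprod.inl (algOf R R) (appL Limits.biprod.fst (algOf R R) x) +
    appL Limits.biprod.inr (algOf R R) (appL Limits.biprod.snd (algOf R R) x) = 0
  rw [Subsingleton.elim (appL Limits.biprod.fst (algOf R R) x) 0, Subsingleton.elim (appL Limits.biprod.snd (algOf R R) x) 0,
    map_zero, map_zero, add_zero]

/-- The middle of a five-term exact sequence. -/
theorem middle {X₁ X₂ X₃ X₄ X₅ : MVF R} (a : X₁ ⟶ X₂) (b : X₂ ⟶ X₃) (c : X₃ ⟶ X₄) (d : X₄ ⟶ X₅)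
    (w₁ : a ≫ b = 0) (w₂ : b ≫ c = 0) (w₃ : c ≫ d = 0) (e₁ : (ShortComplex.mk a b w₁).Exact)
    (e₂ : (ShortComplex.mk b c w₂).Exact) (e₃ : (ShortComplex.mk c d w₃).Exact) (h₁ : InCl p X₁) (h₂ : InCl p X₂)
    (h₄ : InCl p X₄) (h₅ : InCl p X₅) : InCl p X₃ := by
  let l : Limits.cokernel a ⟶ X₃ := Limits.cokernel.desc a b w₁
  let r : X₃ ⟶ Limits.kernel d := Limits.kernel.lift d c w₃
  haveI : Mono l := e₁.mono_cokernelDesc
  haveI : Epi r := e₃.epi_kernelLift
  have wlr : l ≫ r = 0 := by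
    rw [← cancel_epi (Limits.cokernel.π a), ← cancel_mono (Limits.kernel.ι d)]
    simp [l, r, w₂]
  have hex : (ShortComplex.mk l r wlr).Exact := by
    have h1 : (ShortComplex.mk l c (by rw [← cancel_epi (Limits.cokernel.π a)]; simp [l, w₂])).Exact := by
      let φ : ShortComplex.mk b c w₂ ⟶ ShortComplex.mk l c (by rw [← cancel_epi (Limits.cokernel.π a)]; simp [l, w₂]) :=
        { τ₁ := Limits.cokernel.π a, τ₂ := 𝟙 _, τ₃ := 𝟙 _, comm₁₂ := by simp [l] }
      exact (ShortComplex.exact_iff_of_epi_of_isIso_of_mono φ).1 e₂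
    let ψ : ShortComplex.mk l r wlr ⟶ ShortComplex.mk l c (by rw [← cancel_epi (Limits.cokernel.π a)]; simp [l, w₂]) :=
      { τ₁ := 𝟙 _, τ₂ := 𝟙 _, τ₃ := Limits.kernel.ι d, comm₂₃ := by simp [r] }
    exact (ShortComplex.exact_iff_of_epi_of_isIso_of_mono ψ).2 h1
  exact ext _ { exact := hex } (InCl.cokernel a h₁ h₂) (InCl.kernel d h₄ h₅)

end InCl

theorem exact_of_appL (S : ShortComplex (MVF R))
    (h : ∀ B x, appL S.g B x = 0 → ∃ y, appL S.f B y = x) : S.Exact := by
  rw [S.exact_iff_epi_toCycles]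
  refine epi_of_surjective' _ fun B z => ?_
  obtain ⟨y, hy⟩ := h B (appL S.iCycles B z) ((comp_appL _ _ _ _).symm.trans (by rw [S.iCycles_g]; rfl))
  refine ⟨y, injective_appL S.iCycles B ?_⟩
  rw [← comp_appL, S.toCycles_i]
  exact hy

section

variable {P T : Scheme.{u}} (π : P ⟶ T) (q : P ⟶ Spec R) (K : Precoverage Scheme.{u}) [BigSite.OSh K]

/-- Sections over an open, as a functor. -/
def GF (U : P.Opens) : BigSite.Mod K T ⥤ MVF R where
  obj M := G π q K M U
  map φ := mkHom (fun B =>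
    { toFun := fun x => φ.val.app (op (objU π q U B)) x
      map_add' := fun x y => map_add (φ.val.app (op (objU π q U B))).hom x y
      map_smul' := fun b x => (φ.val.app (op (objU π q U B))).hom.map_smul (sectU π q K U B b) x })
    fun _ _ g x => PresheafOfModules.naturality_apply φ.val (objMap π q U g).op x
  map_id _ := hom_ext' fun _ _ => rfl
  map_comp _ _ := hom_ext' fun _ _ => rfl

instance (U : P.Opens) : (GF π q K U).Additive where
  map_add := hom_ext' fun _ _ => rfl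

theorem GF_map_apply {U : P.Opens} {M N : BigSite.Mod K T} (φ : M ⟶ N) (B : Alg R) (x : (G π q K M U).obj (pt B)) :
    appL ((GF π q K U).map φ) B x = φ.val.app (op (objU π q U B)) x := rfl

/-- Restriction, natural in the module. -/
def gResN {U V : P.Opens} (h : U ≤ V) : GF π q K V ⟶ GF π q K U where
  app M := gRes π q K M h
  naturality _ _ φ := hom_ext' fun B x => (PresheafOfModules.naturality_apply φ.val (objIncl π q h B).op x).symm

variable (M : BigSite.Mod K T) {U V : P.Opens}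

theorem objIncl_comp {W : P.Opens} (h : U ≤ V) (h' : V ≤ W) (B : Alg R) :
    objIncl π q h B ≫ objIncl π q h' B = objIncl π q (h.trans h') B := by
  ext : 1
  exact (cancel_mono (wFst q B ⁻¹ᵁ W).ι).1 ((Category.assoc _ _ _).trans
    ((congrArg (_ ≫ ·) (objIncl_ι π q h' B)).trans ((objIncl_ι π q h B).trans (objIncl_ι π q (h.trans h') B).symm)))

theorem res_res {W : P.Opens} (h : U ≤ V) (h' : V ≤ W) (B : Alg R) (x : M.val.presheaf.obj (op (objU π q W B))) :
    M.val.presheaf.map (objIncl π q h B).op (M.val.presheaf.map (objIncl π q h' B).op x) =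
      M.val.presheaf.map (objIncl π q (h.trans h') B).op x := by
  rw [← objIncl_comp π q h h' B]
  exact (ConcreteCategory.congr_hom (M.val.presheaf.map_comp _ _) x).symm

instance mono_objIncl (h : U ≤ V) (B : Alg R) : Mono (objIncl π q h B) := by
  haveI : Mono ((Over.forget T).map (objIncl π q h B)) := inferInstanceAs (Mono (objIncl π q h B).left)
  exact (Over.forget T).mono_of_mono_map this

variable [hK : GoodPre K]

include hK in
/-- Sections glue over two opens. -/
theorem glue₂ {U₁ U₂ : P.Opens} (h₁ : U₁ ≤ U) (h₂ : U₂ ≤ U) (hcov : U ≤ U₁ ⊔ U₂) (B : Alg R) :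
    (∀ x : M.val.presheaf.obj (op (objU π q U B)), M.val.presheaf.map (objIncl π q h₁ B).op x = 0 →
      M.val.presheaf.map (objIncl π q h₂ B).op x = 0 → x = 0) ∧
    ∀ (x₁ : M.val.presheaf.obj (op (objU π q U₁ B))) (x₂ : M.val.presheaf.obj (op (objU π q U₂ B))),
      M.val.presheaf.map (objIncl π q (inf_le_left : U₁ ⊓ U₂ ≤ U₁) B).op x₁ =
        M.val.presheaf.map (objIncl π q (inf_le_right : U₁ ⊓ U₂ ≤ U₂) B).op x₂ →
      ∃ x, M.val.presheaf.map (objIncl π q h₁ B).op x = x₁ ∧ M.val.presheaf.map (objIncl π q h₂ B).op x = x₂ := by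
  let V : ULift.{u} Bool → P.Opens := fun b => cond b.down U₁ U₂
  have hle : ∀ b, V b ≤ U := by rintro ⟨⟨⟩⟩ <;> assumption
  have hs := ((BigSite.toAbMod K T).obj M).property
  rw [Presheaf.isSheaf_iff_isSheaf_forget _ _ (forget AddCommGrpCat.{u + 1}), isSheaf_iff_isSheaf_of_type] at hs
  have hsf : Presieve.IsSheafFor (M.val.presheaf ⋙ forget AddCommGrpCat.{u + 1})
      (Presieve.ofArrows _ (fun b => objIncl π q (hle b) B)) := by
    refine (Presieve.isSheafFor_iff_generate _).2 (hs _ (mem_J_of_opens_arrows _ fun x => ?_))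
    obtain hx | hx := show wFst q B x.1 ∈ U₁ ∨ wFst q B x.1 ∈ U₂ from hcov x.2
    · exact ⟨⟨true⟩, ⟨x.1, hx⟩, Subtype.ext (by
        change ((objIncl π q (hle ⟨true⟩) B).left ≫ (wFst q B ⁻¹ᵁ U).ι) ⟨x.1, hx⟩ = _
        rw [objIncl_ι]
        rfl)⟩
    · exact ⟨⟨false⟩, ⟨x.1, hx⟩, Subtype.ext (by
        change ((objIncl π q (hle ⟨false⟩) B).left ≫ (wFst q B ⁻¹ᵁ U).ι) ⟨x.1, hx⟩ = _
        rw [objIncl_ι]
        rfl)⟩
  refine ⟨fun x hx₁ hx₂ => hsf.isSeparatedFor.ext fun Z g hg => ?_, fun x₁ x₂ hx => ?_⟩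
  · obtain ⟨⟨⟨⟩⟩⟩ := hg
    · exact hx₂.trans (map_zero (M.val.presheaf.map (objIncl π q h₂ B).op).hom).symm
    · exact hx₁.trans (map_zero (M.val.presheaf.map (objIncl π q h₁ B).op).hom).symm
  · let r : ∀ b, M.val.presheaf.obj (op (objU π q (V b) B)) := fun b =>
      match b with
      | ⟨true⟩ => x₁
      | ⟨false⟩ => x₂
    have hr : ∀ i j, M.val.presheaf.map (objIncl π q (inf_le_left : V i ⊓ V j ≤ V i) B).op (r i) =
        M.val.presheaf.map (objIncl π q (inf_le_right : V i ⊓ V j ≤ V j) B).op (r j) := by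
      rintro ⟨⟨⟩⟩ ⟨⟨⟩⟩
      · rfl
      · have h := congrArg (M.val.presheaf.map (objIncl π q (le_of_eq (inf_comm _ _) : U₂ ⊓ U₁ ≤ U₁ ⊓ U₂) B).op) hx.symm
        rw [res_res, res_res] at h
        exact h
      · exact hx
      · rfl
    have hcomp : Presieve.Arrows.Compatible (M.val.presheaf ⋙ forget AddCommGrpCat.{u + 1})
        (fun b => objIncl π q (hle b) B) r := by
      intro i j Z gi gj w
      have w' : gi.left ≫ (wFst q B ⁻¹ᵁ V i).ι = gj.left ≫ (wFst q B ⁻¹ᵁ V j).ι := by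
        rw [← objIncl_ι π q (hle i) B, ← objIncl_ι π q (hle j) B, ← Category.assoc, ← Category.assoc]
        exact congrArg (fun t => t.left ≫ (wFst q B ⁻¹ᵁ U).ι) w
      have hran : Set.range (gi.left ≫ (wFst q B ⁻¹ᵁ V i).ι) ⊆ Set.range (wFst q B ⁻¹ᵁ (V i ⊓ V j)).ι := by
        rintro _ ⟨z', rfl⟩
        rw [Scheme.Opens.range_ι]
        refine ⟨(gi.left z').2, ?_⟩
        rw [w']
        exact (gj.left z').2
      let γ₀ := IsOpenImmersion.lift (wFst q B ⁻¹ᵁ (V i ⊓ V j)).ι (gi.left ≫ (wFst q B ⁻¹ᵁ V i).ι) hran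
      have hγ : γ₀ ≫ (wFst q B ⁻¹ᵁ (V i ⊓ V j)).ι = gi.left ≫ (wFst q B ⁻¹ᵁ V i).ι :=
        IsOpenImmersion.lift_fac _ _ hran
      let γ : Z ⟶ objU π q (V i ⊓ V j) B := Over.homMk γ₀ (by
        change γ₀ ≫ (wFst q B ⁻¹ᵁ (V i ⊓ V j)).ι ≫ wFst q B ≫ π = Z.hom
        rw [← Category.assoc, hγ, Category.assoc]
        exact Over.w gi)
      have h1 : gi = γ ≫ objIncl π q (inf_le_left : V i ⊓ V j ≤ V i) B := by
        ext : 1
        refine (cancel_mono (wFst q B ⁻¹ᵁ V i).ι).1 ?_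
        rw [Over.comp_left, Category.assoc, objIncl_ι]
        exact hγ.symm
      have h2 : gj = γ ≫ objIncl π q (inf_le_right : V i ⊓ V j ≤ V j) B := by
        ext : 1
        refine (cancel_mono (wFst q B ⁻¹ᵁ V j).ι).1 ?_
        rw [Over.comp_left, Category.assoc, objIncl_ι]
        exact w'.symm.trans hγ.symm
      rw [h1, h2, op_comp, op_comp, Functor.map_comp, Functor.map_comp]
      exact congrArg _ (hr i j)
    obtain ⟨x, hx', -⟩ := (Presieve.isSheafFor_arrows_iff _ _).1 hsf r hcomp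
    exact ⟨x, hx' ⟨true⟩, hx' ⟨false⟩⟩

include hK in
theorem inCl_G_affine {p : Prop} {M : BigSite.Mod K T} (hM : adequateMod K T M)
    (hp : p → parasitic K T M ∧ Flat π) {V : P.Opens} (hV : IsAffineOpen V) : InCl p (G π q K M V) := by
  refine ⟨adequate_G_affine π q M hM hV, fun h => ?_⟩
  obtain ⟨hP, hπ⟩ := hp h
  haveI := hπ
  haveI : Flat (specStr (algOf R R)) := by
    rw [show specStr (algOf R R) = 𝟙 _ from Spec.map_id _]
    infer_instance
  haveI : Flat (wFst q (algOf R R)) := inferInstance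
  exact hP (objU π q V (algOf R R))
    (inferInstanceAs (Flat ((wFst q (algOf R R) ⁻¹ᵁ V).ι ≫ wFst q (algOf R R) ≫ π)))

end

end GrothLib.AdeqMod20
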