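import Groth.Agent.Lib.AdeqMod20.Site
import Groth.Agent.Lib.Adeq20.Restr
import Mathlib.CategoryTheory.Sites.IsSheafFor
import Mathlib.Algebra.Category.Ring.Constructions

/-!
# Sections of a sheaf of modules over affine objects
-/

set_option autoImplicit false
set_option linter.style.haveILetI false
set_option linter.unusedSectionVars false

universe u

open CategoryTheory CategoryTheory.Limits Opposite AlgebraicGeometry TensorProduct

noncomputable section

namespace GrothLib.AdeqMod20

open Adeq GrothLib.Adeq20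

variable {K : Precoverage Scheme.{u}} [BigSite.OSh K] {S : Scheme.{u}} {R : CommRingCat.{u}} (a : Spec R ⟶ S)

/-- The spectrum of a map of algebras. -/
abbrev specAlg {B D : Alg R} (f : B ⟶ D) : Spec (CommRingCat.of D) ⟶ Spec (CommRingCat.of B) :=
  Spec.map (CommRingCat.ofHom f.hom.toRingHom)

variable (K) in
/-- A family of algebra maps inducing a covering of spectra. -/
def CovFam {ι : Type u} {B : Alg R} {D : ι → Alg R} (f : ∀ i, B ⟶ D i) : Prop :=
  Presieve.ofArrows (fun i => Spec (CommRingCat.of (D i))) (fun i => specAlg (f i)) ∈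
    K.coverings (Spec (CommRingCat.of B))

/-- The arrow of the site attached to a map of algebras. -/
abbrev siteHom {B D : Alg R} (f : B ⟶ D) : (specOver a).obj (op D) ⟶ (specOver a).obj (op B) :=
  (specOver a).map f.op

theorem siteHom_left {B D : Alg R} (f : B ⟶ D) : (siteHom a f).left = specAlg f := rfl

theorem sieve_mem {ι : Type u} {B : Alg R} {D : ι → Alg R} {f : ∀ i, B ⟶ D i} (hf : CovFam K f) :
    Sieve.ofArrows _ (fun i => siteHom a (f i)) ∈ QuotSh.J K S ((specOver a).obj (op B)) := by
  rw [GrothendieckTopology.mem_over_iff]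
  refine K.toGrothendieck.superset_covering ?_ (Precoverage.generate_mem_toGrothendieck hf)
  refine (Sieve.generate_le_iff _ _).2 ?_
  rintro Z g ⟨i⟩
  refine (Sieve.overEquiv_iff _ _).2 ?_
  let e : Over.mk (specAlg (f i) ≫ ((specOver a).obj (op B)).hom) ≅ (specOver a).obj (op (D i)) :=
    Over.isoMk (Iso.refl _) ((Category.id_comp _).trans (Over.w (siteHom a (f i))).symm)
  have he : Over.homMk (U := Over.mk (specAlg (f i) ≫ ((specOver a).obj (op B)).hom))
      (V := (specOver a).obj (op B)) (specAlg (f i)) rfl =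
      e.hom ≫ siteHom a (f i) := by
    ext : 1
    exact (Category.id_comp _).symm
  have hm : Sieve.ofArrows _ (fun i => siteHom a (f i)) (e.hom ≫ siteHom a (f i)) :=
    Sieve.downward_closed _ (Sieve.ofArrows_mk _ _ i) _
  exact (congrArg (fun t => Sieve.ofArrows _ (fun i => siteHom a (f i)) t) he).mpr hm

variable (K)

/-- The functor of sections of a sheaf of modules. -/
abbrev F (M : BigSite.Mod K S) : MVF R := (toMVF K a).obj M

theorem isSheafFor_cov (M : BigSite.Mod K S) {ι : Type u} {B : Alg R} {D : ι → Alg R} {f : ∀ i, B ⟶ D i}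
    (hf : CovFam K f) :
    Presieve.IsSheafFor (((BigSite.toAbMod K S).obj M).obj ⋙ forget AddCommGrpCat.{u + 1})
      (Presieve.ofArrows _ (fun i => siteHom a (f i))) := by
  have h := ((BigSite.toAbMod K S).obj M).property
  rw [Presheaf.isSheaf_iff_isSheaf_forget _ _ (forget AddCommGrpCat.{u + 1}), isSheaf_iff_isSheaf_of_type] at h
  exact h.isSheafFor _ (sieve_mem a hf)

/-- Sections vanishing on a covering vanish. -/
theorem cov_separated (M : BigSite.Mod K S) {ι : Type u} {B : Alg R} {D : ι → Alg R} {f : ∀ i, B ⟶ D i}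
    (hf : CovFam K f) (x : (F K a M).obj (pt B)) (hx : ∀ i, mapA (F K a M) (f i) x = 0) : x = 0 :=
  (isSheafFor_cov K a M hf).isSeparatedFor.ext fun Z g hg => by
    obtain ⟨i⟩ := hg
    exact (hx i).trans (map_zero (mapA (F K a M) (f i))).symm

/-- Compatible sections on a covering glue. -/
theorem cov_glue (M : BigSite.Mod K S) {ι : Type u} {B : Alg R} {D : ι → Alg R} {f : ∀ i, B ⟶ D i}
    (hf : CovFam K f) (y : ∀ i, (F K a M).obj (pt (D i))) {E : ι → ι → Alg R}
    (l : ∀ i j, D i ⟶ E i j) (r : ∀ i j, D j ⟶ E i j)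
    (hpb : ∀ i j, IsPullback (specAlg (l i j)) (specAlg (r i j)) (specAlg (f i)) (specAlg (f j)))
    (hy : ∀ i j, mapA (F K a M) (l i j) (y i) = mapA (F K a M) (r i j) (y j)) :
    ∃ x, ∀ i, mapA (F K a M) (f i) x = y i := by
  have hcomp : Presieve.Arrows.Compatible (((BigSite.toAbMod K S).obj M).obj ⋙ forget AddCommGrpCat.{u + 1})
      (fun i => siteHom a (f i)) y := by
    intro i j Z gi gj h
    have w : gi.left ≫ specAlg (f i) = gj.left ≫ specAlg (f j) := congrArg CommaMorphism.left h
    let γ : Z ⟶ (specOver a).obj (op (E i j)) := Over.homMk ((hpb i j).lift gi.left gj.left w) (by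
      rw [← Over.w (siteHom a (l i j)), siteHom_left]
      erw [← Category.assoc, (hpb i j).lift_fst]
      exact Over.w gi)
    have h1 : gi = γ ≫ siteHom a (l i j) := by
      ext : 1
      exact ((hpb i j).lift_fst gi.left gj.left w).symm
    have h2 : gj = γ ≫ siteHom a (r i j) := by
      ext : 1
      exact ((hpb i j).lift_snd gi.left gj.left w).symm
    rw [h1, h2, op_comp, op_comp, Functor.map_comp, Functor.map_comp]
    exact congrArg _ (hy i j)
  obtain ⟨x, hx, -⟩ := (Presieve.isSheafFor_arrows_iff _ _).1 (isSheafFor_cov K a M hf) y hcomp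
  exact ⟨x, hx⟩

section BaseChange

variable [GoodPre K]

/-- The comparison algebra of `B` with an algebra `C`. -/
abbrev tens (C B : Alg R) : Alg R := (Adeq.Alg.restr R (C : Type u)).obj ((Adeq.Alg.baseChange R (C : Type u)).obj B)

/-- The structure map from `B`. -/
abbrev tensUnit (C B : Alg R) : B ⟶ tens C B := Adeq.Alg.unit R (C : Type u) B

theorem tens_isPushout (C B : Alg R) :
    IsPushout (CommRingCat.ofHom (algebraMap R (B : Type u))) (CommRingCat.ofHom (algebraMap R (C : Type u)))
      (CommRingCat.ofHom (Algebra.TensorProduct.includeRight :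
        (B : Type u) →ₐ[R] (C : Type u) ⊗[R] (B : Type u)).toRingHom)
      (CommRingCat.ofHom (algebraMap (C : Type u) ((C : Type u) ⊗[R] (B : Type u)))) :=
  (CommRingCat.isPushout_tensorProduct R (C : Type u) (B : Type u)).flip

/-- The base change of a covering of `Spec R` covers every algebra. -/
theorem covFam_tens {ι : Type u} {C : ι → Alg R}
    (hC : Presieve.ofArrows (fun i => Spec (CommRingCat.of (C i)))
      (fun i => Spec.map (CommRingCat.ofHom (algebraMap R (C i)))) ∈ K.coverings (Spec R)) (B : Alg R) :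
    CovFam K (fun i => tensUnit (C i) B) :=
  coverings_isPullback K _ hC (Spec.map (CommRingCat.ofHom (algebraMap R (B : Type u)))) _
    (fun i => Spec.map (CommRingCat.ofHom (algebraMap (C i : Type u) ((C i : Type u) ⊗[R] (B : Type u)))))
    fun i => isPullback_SpecMap_of_isPushout _ _ _ _ (tens_isPushout (C i) B)

omit [GoodPre K] in
/-- The overlap of two base changes. -/
theorem tens_isPullback (C C' B : Alg R) :
    IsPullback (specAlg (tensUnit C' (tens C B)))
      (specAlg ((Adeq.Alg.restr R (C' : Type u)).map ((Adeq.Alg.baseChange R (C' : Type u)).map (tensUnit C B))))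
      (specAlg (tensUnit C B)) (specAlg (tensUnit C' B)) := by
  refine isPullback_SpecMap_of_isPushout _ _ _ _ ?_
  refine IsPushout.of_left ?_ ?_ (tens_isPushout C' B)
  · refine (congrArg₂ (IsPushout · _ _ ·) ?_ ?_).mpr (tens_isPushout C' (tens C B))
    · refine congrArg CommRingCat.ofHom (RingHom.ext fun r => ?_)
      exact (Algebra.TensorProduct.includeRight : (B : Type u) →ₐ[R] (C : Type u) ⊗[R] (B : Type u)).commutes r
    · refine congrArg CommRingCat.ofHom (RingHom.ext fun c => ?_)
      exact ((Adeq.Alg.baseChange R (C' : Type u)).map (tensUnit C B)).hom.commutes c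
  · refine congrArg CommRingCat.ofHom (RingHom.ext fun b => ?_)
    rfl

end BaseChange

section Tower

variable {a}

theorem triangle {R₁ C₁ B₁ : CommRingCat.{u}} {T : Scheme.{u}} (g : R₁ ⟶ C₁) (h : C₁ ⟶ B₁) (k : R₁ ⟶ B₁) (e : g ≫ h = k)
    (a₁ : Spec R₁ ⟶ T) : 𝟙 (Spec B₁) ≫ Spec.map h ≫ Spec.map g ≫ a₁ = Spec.map k ≫ a₁ := by
  rw [← e, Category.id_comp, Spec.map_comp, Category.assoc]

/-- Two structure maps differing by an equation give isomorphic objects. -/
def overEqIso {T : Scheme.{u}} {X : Scheme.{u}} (f g : X ⟶ T) (h : 𝟙 X ≫ g = f) : Over.mk f ≅ Over.mk g :=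
  Over.isoMk (Iso.refl X) h

theorem left_square {X X' : Scheme.{u}} (i : X ⟶ X) (i' : X' ⟶ X') (p q : X' ⟶ X) (hi : i = 𝟙 X) (hi' : i' = 𝟙 X')
    (e : p = q) : i' ≫ q = p ≫ i := by
  subst hi hi' e
  exact (Category.id_comp _).trans (Category.comp_id _).symm

theorem map_up {T X : Scheme.{u}} (f g : X ⟶ T) (h : 𝟙 X ≫ g = f) (x : Γ(X, ⊤)) :
    (BigSite.ORing K T).obj.map (overEqIso f g h).hom.op (ULift.up x : ULift.{u + 1} Γ(X, ⊤)) =
      (ULift.up x : ULift.{u + 1} Γ(X, ⊤)) := by
  apply ULift.ext
  change (Scheme.Hom.appTop (𝟙 X)) x = x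
  rw [Scheme.Hom.id_appTop]
  rfl

theorem toSect_down {R₁ : CommRingCat.{u}} (a₁ : Spec R₁ ⟶ S) (B : Alg R₁) (b : B) :
    (toSect K a₁ B b).down = (Scheme.ΓSpecIso (CommRingCat.of (B : Type u))).inv b := rfl

theorem spec_restr (C : Alg R) {B B' : Alg (C : Type u)} (g : B ⟶ B') :
    Spec.map (CommRingCat.ofHom ((Adeq.Alg.restr R (C : Type u)).map g).hom.toRingHom) =
      Spec.map (CommRingCat.ofHom g.hom.toRingHom) := rfl

variable (a) in
/-- The comparison of the two objects of the site attached to an algebra of the tower. -/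
def towerTheta (C : Alg R) (B : Alg (C : Type u)) : (specOver a).obj (op (res (C : Type u) (A := R) B)) ≅
    (specOver (R := CommRingCat.of (C : Type u))
      (Spec.map (CommRingCat.ofHom (algebraMap R (C : Type u))) ≫ a)).obj (op B) :=
  overEqIso (X := Spec (CommRingCat.of (B : Type u)))
    (Spec.map (CommRingCat.ofHom (algebraMap R (res (C : Type u) (A := R) B : Type u))) ≫ a) _
    (triangle (CommRingCat.ofHom (algebraMap R (C : Type u)))
      (CommRingCat.ofHom (algebraMap (C : Type u) (B : Type u))) _ rfl a)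

variable (a) in
theorem towerTheta_left (C : Alg R) (B : Alg (C : Type u)) :
    (towerTheta a C B).hom.left = 𝟙 (Spec (CommRingCat.of (B : Type u))) := rfl

variable (a) in
theorem map_towerTheta (C : Alg R) (B : Alg (C : Type u)) (b : B) :
    (BigSite.ORing K S).obj.map (towerTheta a C B).hom.op
        (toSect K (R := CommRingCat.of (C : Type u)) (Spec.map (CommRingCat.ofHom (algebraMap R (C : Type u))) ≫ a) B b) =
      toSect K a (res (C : Type u) (A := R) B) b :=
  map_up (K := K) (Spec.map (CommRingCat.ofHom (algebraMap R (res (C : Type u) (A := R) B : Type u))) ≫ a)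
    (Spec.map (CommRingCat.ofHom (algebraMap (C : Type u) (B : Type u))) ≫
      Spec.map (CommRingCat.ofHom (algebraMap R (C : Type u))) ≫ a)
    (triangle (CommRingCat.ofHom (algebraMap R (C : Type u)))
      (CommRingCat.ofHom (algebraMap (C : Type u) (B : Type u))) _ rfl a)
    ((Scheme.ΓSpecIso (CommRingCat.of (B : Type u))).inv b)

theorem natural_sq {U U' V V' : Over S} (P : PresheafOfModules.{u + 1} (BigSite.ORing K S).obj) (θ : U ⟶ V) (θ' : U' ⟶ V')
    (p : U' ⟶ U) (q : V' ⟶ V) (e : θ' ≫ q = p ≫ θ) (x : P.presheaf.obj (op V)) :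
    P.presheaf.map θ'.op (P.presheaf.map q.op x) = P.presheaf.map p.op (P.presheaf.map θ.op x) := by
  refine (ConcreteCategory.congr_hom (P.presheaf.map_comp q.op θ'.op) x).symm.trans ?_
  rw [← op_comp, e, op_comp]
  exact ConcreteCategory.congr_hom (P.presheaf.map_comp θ.op p.op) x

/-- The functor of sections after a change of base ring. -/
theorem towerIso (C : Alg R) (P : PresheafOfModules.{u + 1} (BigSite.ORing K S).obj)
    (a' : Spec (CommRingCat.of (C : Type u)) ⟶ S)
    (h : Spec.map (CommRingCat.ofHom (algebraMap R (C : Type u))) ≫ a = a') :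
    Nonempty ((toMVFPre K (R := CommRingCat.of (C : Type u)) a').obj P ≅
      (Adeq.restr R (C : Type u)).obj ((toMVFPre K a).obj P)) := by
  subst h
  let θ := fun B : Alg (C : Type u) => towerTheta a C B
  let hh : (toMVFPre K (R := CommRingCat.of (C : Type u)) (Spec.map (CommRingCat.ofHom (algebraMap R (C : Type u))) ≫ a)).obj P ⟶
      (Adeq.restr R (C : Type u)).obj ((toMVFPre K a).obj P) :=
    mkHom (fun B =>
      { toFun := fun x => P.map (θ B).hom.op x
        map_add' := fun x y => map_add (P.map (θ B).hom.op).hom x y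
        map_smul' := fun b x => by
          refine (P.map_smul (θ B).hom.op _ x).trans ?_
          refine congrArg₂ (· • ·) ?_ rfl
          exact map_towerTheta K a C B b })
      fun B B' g x => natural_sq K P (towerTheta a C B).hom (towerTheta a C B').hom
        ((specOver a).map ((Adeq.Alg.restr R (C : Type u)).map g).op)
        ((specOver (R := CommRingCat.of (C : Type u))
          (Spec.map (CommRingCat.ofHom (algebraMap R (C : Type u))) ≫ a)).map g.op)
        (CommaMorphism.ext (left_square (X := Spec (CommRingCat.of (B : Type u))) (X' := Spec (CommRingCat.of (B' : Type u)))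
          _ _ (Spec.map (CommRingCat.ofHom ((Adeq.Alg.restr R (C : Type u)).map g).hom.toRingHom))
          (Spec.map (CommRingCat.ofHom g.hom.toRingHom)) (towerTheta_left a C B) (towerTheta_left a C B') (spec_restr C g))
          (Subsingleton.elim _ _)) x
  have hb : ∀ B, Function.Bijective (appL hh B) := fun B =>
    (ConcreteCategory.isIso_iff_bijective (P.presheaf.map (θ B).hom.op)).1 inferInstance
  haveI : Mono hh := mono_of_injective' hh fun B => (hb B).1
  haveI : Epi hh := epi_of_surjective' hh fun B => (hb B).2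
  haveI : IsIso hh := isIso_of_mono_of_epi hh
  exact ⟨asIso hh⟩

end Tower

end GrothLib.AdeqMod20
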