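import Groth.Agent.Lib.AdeqMod20.Affine
import Groth.Agent.Lib.AdeqMod20.Pull
import Mathlib.Algebra.Category.ModuleCat.Presheaf.Sheafification
import Mathlib.CategoryTheory.Sites.LocallySurjective

/-!
# Sheafification does not change the sections over affine objects of an adequate presheaf
-/

set_option autoImplicit false
set_option linter.style.haveILetI false
set_option linter.unusedSectionVars false

universe u

open CategoryTheory CategoryTheory.Limits Opposite AlgebraicGeometry

noncomputable section

namespace GrothLib.AdeqMod20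

open Adeq GrothLib.Adeq20

variable {K : Precoverage Scheme.{u}} [BigSite.OSh K] [GoodPre K] {S : Scheme.{u}}
  (P : PresheafOfModules.{u + 1} (BigSite.ORing K S).obj)

/-- The sheafification. -/
abbrev shf : BigSite.Mod K S := (PresheafOfModules.sheafification (𝟙 (BigSite.ORing K S).obj)).obj P

/-- The unit on presheaves. -/
abbrev shfη : P.presheaf ⟶ (shf P).val.presheaf := CategoryTheory.toSheafify (QuotSh.J K S) P.presheaf

instance : Presheaf.IsLocallyInjective (QuotSh.J K S) (shfη P) :=
  inferInstanceAs (Presheaf.IsLocallyInjective (QuotSh.J K S) (CategoryTheory.toSheafify (QuotSh.J K S) P.presheaf))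

instance : Presheaf.IsLocallySurjective (QuotSh.J K S) (shfη P) :=
  inferInstanceAs (Presheaf.IsLocallySurjective (QuotSh.J K S) (CategoryTheory.toSheafify (QuotSh.J K S) P.presheaf))

variable {R : CommRingCat.{u}} (a : Spec R ⟶ S)

theorem shf_smul (U : (Over S)ᵒᵖ) (r : (BigSite.ORing K S).obj.obj U) (x : P.obj U) :
    (shfη P).app U (r • x) = r • (show (shf P).val.obj U from (shfη P).app U x) :=
  (((PresheafOfModules.sheafificationAdjunction (𝟙 (BigSite.ORing K S).obj)).unit.app P).app U).hom.map_smul r x

theorem shf_natural {U V : Over S} (g : U ⟶ V) (x : P.presheaf.obj (op V)) :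
    (shfη P).app (op U) (P.presheaf.map g.op x) = (shf P).val.presheaf.map g.op ((shfη P).app (op V) x) :=
  NatTrans.naturality_apply (shfη P) g.op x

/-- The comparison on affine objects. -/
def shfMap : (toMVFPre K a).obj P ⟶ F K a (shf P) :=
  mkHom (fun B =>
    { toFun := fun x => (shfη P).app (op ((specOver a).obj (op B))) x
      map_add' := fun x y => map_add _ x y
      map_smul' := fun b x => shf_smul P _ (toSect K a B b) x })
    fun _ _ g x => shf_natural P ((specOver a).map g.op) x

/-- The comparison is an isomorphism when the presheaf is adequate. -/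
theorem shfIso (h : adequate R ((toMVFPre K a).obj P)) :
    Nonempty ((toMVFPre K a).obj P ≅ F K a (shf P)) := by
  let Q := (toMVFPre K a).obj P
  have hinj : ∀ B, Function.Injective (appL (shfMap P a) B) := fun B =>
    (injective_iff_map_eq_zero _).2 fun x hx => by
      obtain ⟨ι, _, D, f, hf, hmem⟩ := exists_covFam K a _
        (Presheaf.equalizerSieve_mem (QuotSh.J K S) (shfη P) (X := op ((specOver a).obj (op B))) x (0 : Q.obj (pt B))
          (hx.trans (map_zero _).symm))
      obtain ⟨hflat, hsurj⟩ := covFam_props K hf
      exact adequate_separated f hflat h hsurj x fun j => (hmem j).trans (map_zero (mapA Q (f j)))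
  have hsur : ∀ B, Function.Surjective (appL (shfMap P a) B) := fun B y => by
    obtain ⟨ι, _, D, f, hf, hmem⟩ := exists_covFam K a _
      (Presheaf.imageSieve_mem (QuotSh.J K S) (shfη P) (U := op ((specOver a).obj (op B))) y)
    obtain ⟨hflat, hsurj⟩ := covFam_props K hf
    choose x hx' using fun j => (show ∃ z : Q.obj (pt (D j)),
      appL (shfMap P a) (D j) z = mapA (F K a (shf P)) (f j) y from hmem j)
    obtain ⟨z, hz⟩ := adequate_glue f hflat h hsurj x fun i j => hinj _ (by
      rw [← mapA_appL, ← mapA_appL, hx', hx', map_comp', map_comp', map_congr _ (overlap_comm f i j) y])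
    refine ⟨z, sub_eq_zero.1 (cov_separated K a (shf P) hf _ fun j => ?_)⟩
    rw [map_sub, mapA_appL, hz j, hx', sub_self]
  haveI : Mono (shfMap P a) := mono_of_injective' _ hinj
  haveI : Epi (shfMap P a) := epi_of_surjective' _ hsur
  haveI : IsIso (shfMap P a) := isIso_of_mono_of_epi _
  exact ⟨asIso (shfMap P a)⟩

omit R a in
theorem adequateMod_shf (h : ∀ (R : CommRingCat.{u}) (a : Spec R ⟶ S), adequate R ((toMVFPre K a).obj P)) :
    adequateMod K S (shf P) :=
  adequateMod_of_forall _ fun R a => by
    obtain ⟨e⟩ := shfIso P a (h R a)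
    exact (adequate R).prop_of_iso e (h R a)

end GrothLib.AdeqMod20
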