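import Groth.Prelude.Def_Adeq2
import Groth.Agent.Lib.Adeq20.Dual
import Mathlib.AlgebraicGeometry.Sites.Fpqc
import Mathlib.AlgebraicGeometry.Pullbacks

/-!
# Affine refinements of coverings of affine schemes
-/

set_option autoImplicit false
set_option linter.style.haveILetI false

universe u

open CategoryTheory CategoryTheory.Limits Opposite AlgebraicGeometry

noncomputable section

namespace GrothLib.AdeqMod20

open Adeq

/-- A precoverage by flat open maps, containing the open immersions. -/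
class GoodPre (K : Precoverage Scheme.{u}) : Prop where
  out : ∃ P : MorphismProperty Scheme.{u}, K = Scheme.precoverage P ∧ P.IsMultiplicative ∧
    P.IsStableUnderBaseChange ∧ (∀ ⦃X Y : Scheme.{u}⦄ (f : X ⟶ Y), IsOpenImmersion f → P f) ∧
    (∀ ⦃X Y : Scheme.{u}⦄ (f : X ⟶ Y), P f → Flat f) ∧
    (∀ ⦃X Y : Scheme.{u}⦄ (f : X ⟶ Y), P f → IsOpenMap f)

instance : GoodPre Scheme.fppfPrecoverage.{u} :=
  ⟨@Flat ⊓ @LocallyOfFinitePresentation, rfl,
    { id_mem := fun X => ⟨inferInstanceAs (Flat (𝟙 X)), inferInstanceAs (LocallyOfFinitePresentation (𝟙 X))⟩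
      comp_mem := fun f g ⟨_, _⟩ ⟨_, _⟩ =>
        ⟨inferInstanceAs (Flat (f ≫ g)), inferInstanceAs (LocallyOfFinitePresentation (f ≫ g))⟩ },
    MorphismProperty.IsStableUnderBaseChange.inf,
    fun _ _ f hf => ⟨inferInstance, inferInstance⟩, fun _ _ f hf => hf.1,
    fun _ _ f hf => by
      haveI := hf.1
      haveI := hf.2
      exact f.isOpenMap⟩

instance : GoodPre Scheme.zariskiPrecoverage.{u} :=
  ⟨@IsOpenImmersion, rfl, inferInstance, inferInstance, fun _ _ f hf => hf,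
    fun _ _ f hf => by
      haveI : IsOpenImmersion f := hf
      infer_instance,
    fun _ _ f hf => by
      haveI : IsOpenImmersion f := hf
      exact f.isOpenEmbedding.isOpenMap⟩

variable (K : Precoverage Scheme.{u}) [hK : GoodPre K]

include hK in
theorem coverings_isPullback {ι : Type*} {S : Scheme.{u}} {X : ι → Scheme.{u}} (f : ∀ i, X i ⟶ S)
    (hf : Presieve.ofArrows X f ∈ K.coverings S) {Y : Scheme.{u}} (g : Y ⟶ S) {Q : ι → Scheme.{u}}
    (p₁ : ∀ i, Q i ⟶ Y) (p₂ : ∀ i, Q i ⟶ X i) (h : ∀ i, IsPullback (p₁ i) (p₂ i) g (f i)) :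
    Presieve.ofArrows Q p₁ ∈ K.coverings Y := by
  obtain ⟨P, rfl, _, _, -, -, -⟩ := hK.out
  exact Precoverage.mem_coverings_of_isPullback f hf g p₁ p₂ h

include hK in
theorem flat_of_mem {ι : Type*} {S : Scheme.{u}} {X : ι → Scheme.{u}} (f : ∀ i, X i ⟶ S)
    (hf : Presieve.ofArrows X f ∈ K.coverings S) :
    (∀ i, Flat (f i)) ∧ ∀ x : S, ∃ i y, f i y = x := by
  obtain ⟨P, rfl, -, -, -, hflat, -⟩ := hK.out
  obtain ⟨h1, h2⟩ := (Scheme.ofArrows_mem_precoverage_iff P).1 hf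
  exact ⟨fun i => hflat _ (h2 i), h1⟩

include hK in
/-- Every scheme has an affine covering. -/
theorem exists_affine_covering (T : Scheme.{u}) :
    ∃ (ι : Type u) (R : ι → CommRingCat.{u}) (a : ∀ i, Spec (R i) ⟶ T),
      Presieve.ofArrows (fun i => Spec (R i)) a ∈ K.coverings T := by
  obtain ⟨P, rfl, -, -, hop, -, -⟩ := hK.out
  refine ⟨T, fun x => Γ(_, (exists_isAffineOpen_mem_and_subset (x := x) (U := ⊤) trivial).choose), fun x =>
    (exists_isAffineOpen_mem_and_subset (x := x) (U := ⊤) trivial).choose_spec.1.fromSpec,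
    (Scheme.ofArrows_mem_precoverage_iff P).2 ⟨fun x => ?_, fun x => hop _ inferInstance⟩⟩
  have hU := (exists_isAffineOpen_mem_and_subset (x := x) (U := ⊤) trivial).choose_spec
  have : x ∈ Set.range hU.1.fromSpec := by
    rw [hU.1.range_fromSpec]
    exact hU.2.1
  obtain ⟨y, hy⟩ := this
  exact ⟨x, y, hy⟩

include hK in
/-- A covering sieve of an affine scheme contains a finite affine covering family. -/
theorem exists_affine_refinement (R : CommRingCat.{u}) (T : Sieve (Spec R)) (hT : T ∈ K.toGrothendieck (Spec R)) :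
    ∃ (ι : Type u) (_ : Finite ι) (C : ι → Alg R),
      Presieve.ofArrows (fun i => Spec (CommRingCat.of (C i)))
        (fun i => Spec.map (CommRingCat.ofHom (algebraMap R (C i)))) ∈ K.coverings (Spec R) ∧
      ∀ i, T (Spec.map (CommRingCat.ofHom (algebraMap R (C i)))) := by
  obtain ⟨P, rfl, hmul, hbc, hop, -, hopen⟩ := hK.out
  obtain ⟨R₀, hR₀, hle⟩ := Precoverage.mem_toGrothendieck_iff_of_isStableUnderComposition.1 hT
  obtain ⟨𝒰₀, h𝒰₀⟩ := Precoverage.mem_iff_exists_zeroHypercover.1 hR₀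
  let 𝒰 : Scheme.Cover (Scheme.precoverage P) (Spec R) := Precoverage.ZeroHypercover.restrictIndexOfSmall.{u} 𝒰₀
  have h𝒰 : ∀ i, R₀ (𝒰.f i) := fun i => by
    rw [h𝒰₀]
    exact ⟨_⟩
  haveI : QuasiCompactCover 𝒰.toPreZeroHypercover := QuasiCompactCover.of_isOpenMap fun i => hopen _ (𝒰.map_prop i)
  haveI : P.RespectsLeft @IsOpenImmersion := ⟨fun i hi f hf => P.comp_mem i f (hop i hi) hf⟩
  obtain ⟨𝒱, φ, hfin, -⟩ := QuasiCompactCover.exists_hom.{u} 𝒰
  have key : ∀ (X : CommRingCat.{u}) (g : Spec X ⟶ Spec R), ∃ B : Alg R,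
      ∃ e : Spec (CommRingCat.of B) ≅ Spec X, e.hom ≫ g = Spec.map (CommRingCat.ofHom (algebraMap R B)) :=
    fun X g =>
      letI := (Spec.preimage g).hom.toAlgebra
      ⟨algOf R X, Iso.refl _, (Category.id_comp g).trans (Spec.map_preimage g).symm⟩
  choose C e hC using fun i => key (𝒱.X i) (𝒱.f i)
  refine ⟨𝒱.I₀, hfin, C, (Scheme.ofArrows_mem_precoverage_iff P).2 ⟨fun x => ?_, fun i => ?_⟩, fun i => ?_⟩
  · obtain ⟨y, hy⟩ := 𝒱.covers x
    refine ⟨𝒱.idx x, (e _).inv y, ?_⟩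
    rw [← hC, ← Scheme.Hom.comp_apply, Iso.inv_hom_id_assoc]
    exact hy
  · rw [← hC]
    exact P.comp_mem _ _ (hop _ inferInstance) (𝒱.map_prop i)
  · rw [← hC, show 𝒱.f i = φ.h₀ i ≫ 𝒰.f (φ.s₀ i) from (φ.w₀ i).symm]
    exact T.downward_closed (T.downward_closed (hle _ _ (h𝒰 (φ.s₀ i))) _) _

end GrothLib.AdeqMod20
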