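import Groth.Agent.Lib.AdeqMod20.Cartan
import Groth.Agent.Lib.SheafCoh.Compare
import Mathlib.CategoryTheory.Sites.EpiMono
import Mathlib.CategoryTheory.Abelian.GrothendieckAxioms.Colim
import Mathlib.Algebra.Category.Grp.AB

/-!
# Restriction of fppf abelian sheaves to the small Zariski site and cohomology
-/

set_option autoImplicit false
set_option linter.style.haveILetI false
set_option linter.unusedSectionVars false

universe u w w'

open CategoryTheory CategoryTheory.Limits Opposite AlgebraicGeometry Abelian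

noncomputable section

namespace GrothLib.AdeqMod20

section Compare

open GrothLib.SheafCoh

variable {A : Type*} [Category A] [Abelian A] [HasExt.{w} A] [EnoughInjectives A]
  {B : Type*} [Category B] [Abelian B] [HasExt.{w'} B]
  (G : A ⥤ B) [G.PreservesZeroMorphisms] (X : A) (Y : B) (φ : ∀ F : A, (X ⟶ F) ≃+ (Y ⟶ G.obj F))

/-- Comparison of `Ext` along a functor exact on a class closed under cokernels into injectives. -/
theorem nonempty_ext_addEquiv_of_class (P : A → Prop)
    (hφ : ∀ {F F' : A} (g : F ⟶ F') (a : X ⟶ F), φ F' (a ≫ g) = φ F a ≫ G.map g)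
    (hG : ∀ F, P F → P (injSES F).X₃ ∧ ((injSES F).map G).ShortExact)
    (hI : ∀ I : A, Injective I → ∀ n : ℕ, Subsingleton (Ext.{w'} Y (G.obj I) (n + 1)))
    (n : ℕ) (F : A) (hF : P F) : Nonempty (Ext.{w} X F n ≃+ Ext.{w'} Y (G.obj F) n) := by
  induction n generalizing F with
  | zero => exact ⟨(Ext.addEquiv₀.trans (φ F)).trans Ext.addEquiv₀.symm⟩
  | succ n ih =>
    have hS := injSES_shortExact F
    have hT := (hG F hF).2
    have hX : ∀ m, Subsingleton (Ext.{w} X (injSES F).X₂ (m + 1)) := fun m =>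
      Ext.subsingleton_of_injective _ _ _
    have hY : ∀ m, Subsingleton (Ext.{w'} Y ((injSES F).map G).X₂ (m + 1)) := fun m =>
      hI _ (Injective.injective_under F) m
    cases n with
    | zero =>
      let a : (X ⟶ (injSES F).X₃) →+ Ext.{w} X F 1 := deltaHom hS
      let b : (X ⟶ (injSES F).X₃) →+ Ext.{w'} Y (G.obj F) 1 :=
        (deltaHom (X := Y) hT).comp (φ (injSES F).X₃).toAddMonoidHom
      have ha : Function.Surjective a := deltaHom_surjective hS (hX 0)
      have hb : Function.Surjective b :=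
        (deltaHom_surjective (X := Y) hT (hY 0)).comp (φ (injSES F).X₃).surjective
      have hker : a.ker = b.ker := by
        ext g
        change deltaHom hS g = 0 ↔ deltaHom (X := Y) hT (φ _ g) = 0
        refine (deltaHom_eq_zero_iff hS g).trans (Iff.trans ?_ (deltaHom_eq_zero_iff hT _).symm)
        constructor
        · rintro ⟨g', rfl⟩
          exact ⟨φ _ g', (hφ _ g').symm⟩
        · rintro ⟨g', hg'⟩
          refine ⟨(φ _).symm g', (φ _).injective ((hφ _ _).trans ?_)⟩
          exact (congrArg (fun t => t ≫ G.map (injSES F).g) ((φ _).apply_symm_apply g')).trans hg'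
      exact ⟨((QuotientAddGroup.quotientKerEquivOfSurjective a ha).symm.trans
        (QuotientAddGroup.quotientAddEquivOfEq hker)).trans
        (QuotientAddGroup.quotientKerEquivOfSurjective b hb)⟩
    | succ m =>
      obtain ⟨e⟩ := ih (injSES F).X₃ (hG F hF).1
      exact ⟨(extShift hS (m + 1) (hX m) (hX (m + 1))).symm.trans
        (e.trans (extShift (X := Y) hT (m + 1) (hY m) (hY (m + 1))))⟩

end Compare

local notation "fppf" => Scheme.fppfPrecoverage

variable {S : Scheme.{u}}

section Injective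

/-- The open neighbourhoods of the image of an object. -/
abbrev Nbhd (V : Over S) : Type (u + 1) :=
  ULift.{u + 1} {U : (S.Opens)ᵒᵈ // Set.range V.hom ⊆ (OrderDual.ofDual U : S.Opens)}

instance (V : Over S) : IsDirected (Nbhd V) (· ≤ ·) :=
  ⟨fun a b => ⟨⟨⟨OrderDual.toDual (OrderDual.ofDual a.down.1 ⊓ OrderDual.ofDual b.down.1),
    fun _ hx => ⟨a.down.2 hx, b.down.2 hx⟩⟩⟩,
    ((inf_le_left : OrderDual.ofDual a.down.1 ⊓ OrderDual.ofDual b.down.1 ≤ _) :),
    ((inf_le_right : OrderDual.ofDual a.down.1 ⊓ OrderDual.ofDual b.down.1 ≤ _) :)⟩⟩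

instance (V : Over S) : Nonempty (Nbhd V) := ⟨⟨⟨OrderDual.toDual ⊤, fun _ _ => trivial⟩⟩⟩

/-- The neighbourhoods as opens. -/
def nbhdFun (V : Over S) : Nbhd V ⥤ (S.Opens)ᵒᵖ where
  obj j := op (OrderDual.ofDual j.down.1)
  map {j j'} h := (homOfLE (show OrderDual.ofDual j'.down.1 ≤ OrderDual.ofDual j.down.1 from
    (leOfHom h :))).op

theorem range_subset_of_hom {V : Over S} {U : S.Opens} (g : V ⟶ (BigSite.zarIncl S).obj U) :
    Set.range V.hom ⊆ U := by
  rintro _ ⟨y, rfl⟩
  rw [← Over.w g]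
  exact (g.left y).2

theorem subsingleton_hom (V : Over S) (U : S.Opens) : Subsingleton (V ⟶ (BigSite.zarIncl S).obj U) :=
  ⟨fun g g' => Over.OverMorphism.ext ((cancel_mono U.ι).1 ((Over.w g).trans (Over.w g').symm))⟩

/-- The Godement presheaf restricted to opens is injective when the values are. -/
theorem injective_gdm_res (A : Over S → AddCommGrpCat.{u + 1}) [∀ V, Injective (A V)] :
    Injective ((BigSite.zarIncl S).op ⋙ gdm A) := by
  refine ⟨fun {P Q} φ g _ => ?_⟩
  have hc : ∀ (V : Over S) (j : Nbhd V), ∃ γ : V ⟶ (BigSite.zarIncl S).obj (OrderDual.ofDual j.down.1), True :=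
    fun V j => by
      let U : S.Opens := OrderDual.ofDual j.down.1
      have h : Set.range V.hom ⊆ Set.range U.ι := (Scheme.Opens.range_ι U).symm ▸ j.down.2
      exact ⟨Over.homMk (U := V) (V := Over.mk U.ι) (IsOpenImmersion.lift U.ι V.hom h)
        (IsOpenImmersion.lift_fac _ _ _), trivial⟩
  choose γ _ using hc
  let ev : ∀ (W : (Over S)ᵒᵖ) (V : Over S) (h : V ⟶ W.unop), (gdm A).obj W ⟶ A V := fun W V h =>
    AddCommGrpCat.ofHom (AddMonoidHom.mk' (fun s => (s : ∀ V : Over S, (V ⟶ W.unop) → A V) V h) fun _ _ => rfl)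
  let c : ∀ V, Cocone (nbhdFun V ⋙ P) := fun V =>
    { pt := A V
      ι :=
        { app := fun j => φ.app ((nbhdFun V).obj j) ≫ ev _ V (γ V j)
          naturality := fun j j' h => by
            ext x
            change ev _ V (γ V j') (φ.app _ (P.map _ x)) = ev _ V (γ V j) (φ.app _ x)
            refine (congrArg (ev _ V (γ V j')) (NatTrans.naturality_apply φ ((nbhdFun V).map h) x)).trans ?_
            exact congrArg (fun t => (show ∀ Z : Over S, (Z ⟶ _) → A Z from φ.app ((nbhdFun V).obj j) x) V t)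
              ((subsingleton_hom V _).elim _ (γ V j)) } }
  let ψ : ∀ V, colimit (nbhdFun V ⋙ P) ⟶ A V := fun V => colimit.desc _ (c V)
  let m : ∀ V, colimit (nbhdFun V ⋙ P) ⟶ colimit (nbhdFun V ⋙ Q) := fun V =>
    colim.map (Functor.whiskerLeft (nbhdFun V) g)
  haveI : ∀ V, Mono (m V) := fun V => by
    haveI : ∀ j, Mono ((Functor.whiskerLeft (nbhdFun V) g).app j) := fun j =>
      inferInstanceAs (Mono (g.app _))
    haveI : Mono (Functor.whiskerLeft (nbhdFun V) g) := NatTrans.mono_of_mono_app _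
    exact inferInstanceAs (Mono (colim.map (Functor.whiskerLeft (nbhdFun V) g)))
  let ψ' : ∀ V, colimit (nbhdFun V ⋙ Q) ⟶ A V := fun V => Injective.factorThru (ψ V) (m V)
  let mem : ∀ (W : (S.Opens)ᵒᵖ) (V : Over S), (V ⟶ (BigSite.zarIncl S).obj W.unop) → Nbhd V := fun W V h =>
    ⟨⟨OrderDual.toDual W.unop, range_subset_of_hom h⟩⟩
  let Φ : Q ⟶ (BigSite.zarIncl S).op ⋙ gdm A :=
    { app := fun W => AddCommGrpCat.ofHom (AddMonoidHom.mk'
        (fun y (V : Over S) (h : V ⟶ (BigSite.zarIncl S).obj W.unop) =>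
          ψ' V (colimit.ι (nbhdFun V ⋙ Q) (mem W V h) y))
        fun x y => funext fun V => funext fun h =>
          map_add (colimit.ι (nbhdFun V ⋙ Q) (mem W V h) ≫ ψ' V).hom x y)
      naturality := fun W W' k => by
        ext y
        refine funext fun V => funext fun h => congrArg (ψ' V) ?_
        let hk : mem W V (h ≫ (BigSite.zarIncl S).map k.unop) ⟶ mem W' V h := homOfLE
          (show mem W V (h ≫ (BigSite.zarIncl S).map k.unop) ≤ mem W' V h from (leOfHom k.unop :))
        exact ConcreteCategory.congr_hom (colimit.w (nbhdFun V ⋙ Q) hk) y }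
  refine ⟨Φ, ?_⟩
  ext W x
  refine funext fun V => funext fun h => ?_
  change ψ' V (colimit.ι (nbhdFun V ⋙ Q) (mem W V h) (g.app W x)) = _
  have h1 : m V (colimit.ι (nbhdFun V ⋙ P) (mem W V h) x) =
      colimit.ι (nbhdFun V ⋙ Q) (mem W V h) (g.app W x) :=
    ConcreteCategory.congr_hom (ι_colimMap (Functor.whiskerLeft (nbhdFun V) g) (mem W V h)) x
  rw [← h1]
  refine (ConcreteCategory.congr_hom (Injective.comp_factorThru (ψ V) (m V)) _).trans ?_
  refine (ConcreteCategory.congr_hom (colimit.ι_desc (c V) (mem W V h)) x).trans ?_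
  exact congrArg (fun t => (show ∀ Z : Over S, (Z ⟶ _) → A Z from φ.app W x) V t)
    ((subsingleton_hom V _).elim (γ V (mem W V h)) h)

variable [BigSite.ZarCont fppf S]

/-- Restriction to the small Zariski site preserves injective objects. -/
theorem injective_resZar (I : BigSite.Ab fppf S) [Injective I] : Injective ((BigSite.resZar fppf S).obj I) := by
  haveI : Injective I.obj :=
    Injective.injective_of_adjoint (sheafificationAdjunction (QuotSh.J fppf S) AddCommGrpCat.{u + 1}) I
  let A : Over S → AddCommGrpCat.{u + 1} := fun V => Injective.under (I.obj.obj (op V))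
  let i : I.obj ⟶ gdm A :=
    { app := fun W => AddCommGrpCat.ofHom
        (AddMonoidHom.mk' (fun x (V : Over S) (g : V ⟶ W.unop) => Injective.ι (I.obj.obj (op V)) (I.obj.map g.op x))
          (fun x y => funext fun V => funext fun g =>
            map_add (I.obj.map g.op ≫ Injective.ι (I.obj.obj (op V))).hom x y))
      naturality := fun W W' f => by
        ext x
        exact funext fun V => funext fun g => congrArg (Injective.ι (I.obj.obj (op V)))
          (ConcreteCategory.congr_hom (I.obj.map_comp f g.op) x).symm }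
  have : ∀ W, Mono (i.app W) := fun W => (AddCommGrpCat.mono_iff_injective _).2 fun x y hxy => by
    have h := (AddCommGrpCat.mono_iff_injective (Injective.ι (I.obj.obj (op W.unop)))).1 inferInstance
      (congrFun (congrFun hxy W.unop) (𝟙 _))
    exact (ConcreteCategory.congr_hom (I.obj.map_id W) x).symm.trans (h.trans (ConcreteCategory.congr_hom (I.obj.map_id W) y))
  haveI : Mono i := NatTrans.mono_of_mono_app i
  let r : gdm A ⟶ I.obj := Injective.factorThru (𝟙 _) i
  have hr : i ≫ r = 𝟙 _ := Injective.comp_factorThru _ _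
  let i' := Functor.whiskerLeft (BigSite.zarIncl S).op i
  let r' := Functor.whiskerLeft (BigSite.zarIncl S).op r
  have hr' : i' ≫ r' = 𝟙 _ := by
    rw [← Functor.whiskerLeft_comp, hr]
    rfl
  haveI := injective_gdm_res A
  refine ⟨fun {P Q} φ g _ => ?_⟩
  haveI : Mono g.hom := inferInstanceAs (Mono ((sheafToPresheaf _ _).map g))
  refine ⟨⟨Injective.factorThru (φ.hom ≫ i') g.hom ≫ r'⟩, ?_⟩
  ext : 1
  refine (Category.assoc _ _ _).symm.trans ?_
  refine (congrArg (fun t => t ≫ r') (Injective.comp_factorThru (φ.hom ≫ i') g.hom)).trans ?_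
  exact (Category.assoc _ _ _).trans ((congrArg (fun t => φ.hom ≫ t) hr').trans (Category.comp_id _))

theorem shortExact_resZar (C : ShortComplex (BigSite.Ab fppf S)) (hC : C.ShortExact) (h : Acyc C.X₁) :
    (C.map (BigSite.resZar fppf S)).ShortExact := by
  let C' := C.map (BigSite.resZar fppf S)
  haveI : Mono C'.f := by
    haveI : ∀ U, Mono (((sheafToPresheaf _ _).map C'.f).app U) := fun U =>
      (AddCommGrpCat.mono_iff_injective _).2 (sections_exact hC ((BigSite.zarIncl S).obj U.unop)).1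
    haveI : Mono ((sheafToPresheaf _ _).map C'.f) := NatTrans.mono_of_mono_app _
    exact (sheafToPresheaf _ _).mono_of_mono_map this
  haveI : Epi C'.g := by
    suffices Sheaf.IsLocallySurjective C'.g from inferInstance
    refine ⟨fun {U} z x hx => ?_⟩
    obtain ⟨_, ⟨W, hW, rfl⟩, hxW, hWle⟩ := S.isBasis_affineOpens.exists_subset_of_mem_open hx U.2
    refine ⟨W, homOfLE hWle, ?_, hxW⟩
    haveI : IsAffine ((BigSite.zarIncl S).obj W).left := hW
    exact exists_lift_affine C hC h ((BigSite.zarIncl S).obj W) _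
  haveI : Epi C'.toCycles := by
    haveI : ∀ U, Epi (((sheafToPresheaf _ _).map C'.toCycles).app U) := fun U =>
      (AddCommGrpCat.epi_iff_surjective _).2 fun z => by
        obtain ⟨y, hy⟩ := ((sections_exact hC ((BigSite.zarIncl S).obj U.unop)).2
          (C'.iCycles.hom.app U z)).1 (by
            exact (ConcreteCategory.congr_hom (congrArg (fun t : C'.cycles ⟶ C'.X₃ => t.hom.app U) C'.iCycles_g) z))
        haveI : Mono (C'.iCycles.hom.app U) :=
          inferInstanceAs (Mono ((sheafToPresheaf _ _ ⋙ (evaluation _ _).obj U).map C'.iCycles))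
        refine ⟨y, (AddCommGrpCat.mono_iff_injective (C'.iCycles.hom.app U)).1 inferInstance ?_⟩
        exact (ConcreteCategory.congr_hom (congrArg (fun t : C'.X₁ ⟶ C'.X₂ => t.hom.app U) C'.toCycles_i) y).trans hy
    haveI : Epi ((sheafToPresheaf _ _).map C'.toCycles) := NatTrans.epi_of_epi_app _
    exact (sheafToPresheaf _ _).epi_of_epi_map this
  exact { exact := C'.exact_iff_epi_toCycles.2 inferInstance }

theorem nonempty_H_resZar_equiv (G : BigSite.Ab fppf S) (hG : Acyc G) (n : ℕ) :
    Nonempty (EtZar.H ((BigSite.resZar fppf S).obj G) n ≃+ BigSite.H fppf S G n) := by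
  let hT : IsTerminal (Over.mk (𝟙 S)) := Over.mkIdTerminal
  haveI hι : IsIso (⊤ : S.Opens).ι := inferInstanceAs (IsIso S.topIso.hom)
  let hT' : IsTerminal ((BigSite.zarIncl S).obj ⊤) :=
    hT.ofIso (Over.isoMk (f := Over.mk (𝟙 S)) (g := (BigSite.zarIncl S).obj ⊤) (@asIso _ _ _ _ _ hι).symm
      (@IsIso.inv_hom_id _ _ _ _ (⊤ : S.Opens).ι hι))
  let hZ : IsTerminal (⊤ : S.Opens) := isTerminalTop
  let φ : ∀ F : BigSite.Ab fppf S, ((constantSheaf _ AddCommGrpCat.{u + 1}).obj (AddCommGrpCat.of (ULift ℤ)) ⟶ F) ≃+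
      ((constantSheaf _ AddCommGrpCat.{u + 1}).obj (AddCommGrpCat.of (ULift ℤ)) ⟶ (BigSite.resZar fppf S).obj F) :=
    fun F => (Ext.addEquiv₀.symm.trans (Sheaf.H.equiv₀ F hT')).trans
      ((Sheaf.H.equiv₀ ((BigSite.resZar fppf S).obj F) hZ).symm.trans Ext.addEquiv₀)
  obtain ⟨e⟩ := nonempty_ext_addEquiv_of_class (BigSite.resZar fppf S) _ _ φ Acyc
    (fun {F F'} g a => by
      obtain ⟨x, rfl⟩ := Ext.addEquiv₀.surjective a
      rw [← Sheaf.H.addEquiv₀_map]
      change Ext.addEquiv₀ ((Sheaf.H.equiv₀ ((BigSite.resZar fppf S).obj F') hZ).symm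
          (Sheaf.H.equiv₀ F' hT' (Ext.addEquiv₀.symm (Ext.addEquiv₀ (Sheaf.H.map g 0 x))))) =
        Ext.addEquiv₀ ((Sheaf.H.equiv₀ ((BigSite.resZar fppf S).obj F) hZ).symm
          (Sheaf.H.equiv₀ F hT' (Ext.addEquiv₀.symm (Ext.addEquiv₀ x)))) ≫ (BigSite.resZar fppf S).map g
      rw [AddEquiv.symm_apply_apply, AddEquiv.symm_apply_apply, ← Sheaf.H.equiv₀_naturality]
      refine Eq.trans (congrArg Ext.addEquiv₀ ?_) (Sheaf.H.addEquiv₀_map _ _)
      exact (Sheaf.H.equiv₀_symm_naturality hZ ((BigSite.resZar fppf S).map g) _).symm)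
    (fun F hF => ⟨acyc_quotient _ (GrothLib.SheafCoh.injSES_shortExact F) hF (acyc_injective _),
      shortExact_resZar _ (GrothLib.SheafCoh.injSES_shortExact F) hF⟩)
    (fun I hI m => by
      haveI := injective_resZar I
      exact Ext.subsingleton_of_injective _ _ _) n G hG
  exact ⟨e.symm⟩

end Injective

end GrothLib.AdeqMod20
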